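/-
Codes of an extraspecial group of order 128 and of its extensions by two generators.
-/
import Cfsg.Agent.Lib.CosetEnum.Rows
import Mathlib.Tactic.NormNum

set_option autoImplicit false

namespace CfsgLib.HeShape

open CfsgLib.CosetEnum

/-- The bilinear form between the two totally isotropic halves, as a bit table. -/
def blT : ℕ := 6542717542496769536

/-- The bilinear form between the two halves. -/
noncomputable def bl (x y : ℕ) : ℕ :=
  Nat.land (Nat.shiftRight blT (Nat.add (Nat.mul (nat_lit 8) x) y)) (nat_lit 1)

/-- The low part of the code. -/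
noncomputable def lo (x : ℕ) : ℕ := Nat.land x (nat_lit 7)

/-- The middle part of the code. -/
noncomputable def mid (x : ℕ) : ℕ := Nat.land (Nat.shiftRight x (nat_lit 3)) (nat_lit 7)

/-- The commutator form of the codes. -/
noncomputable def cbit (x y : ℕ) : ℕ := Nat.xor (bl (lo x) (mid y)) (bl (lo y) (mid x))

/-- The product of codes. -/
noncomputable def qmul (x y : ℕ) : ℕ :=
  force x fun x => force y fun y =>
    Nat.xor (Nat.land (Nat.xor x y) (nat_lit 63)) (Nat.mul (nat_lit 64)
      (Nat.xor (Nat.xor (Nat.land (Nat.shiftRight x (nat_lit 6)) (nat_lit 1))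
        (Nat.land (Nat.shiftRight y (nat_lit 6)) (nat_lit 1))) (bl (lo y) (mid x))))

/-- One factor of the image of a code. -/
noncomputable def factor (x i v : ℕ) : ℕ := Bool.rec (nat_lit 0) v (Nat.testBit x i)

/-- The image of a code under the map with the given images of the six generators. -/
noncomputable def qact (im : List ℕ) (x : ℕ) : ℕ :=
  force x fun x =>
    Nat.xor (qmul (qmul (qmul (qmul (qmul (factor x 0 (im.getD 0 0)) (factor x 1 (im.getD 1 0)))
      (factor x 2 (im.getD 2 0))) (factor x 3 (im.getD 3 0))) (factor x 4 (im.getD 4 0))) (factor x 5 (im.getD 5 0)))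
      (Nat.land x (nat_lit 64))

/-- The images of the generators under the element of order seven. -/
def wImg : List ℕ := [2, 4, 3, 16, 32, 40]

/-- The images of the generators under the involution, by type. -/
def aImgT : List (List ℕ) := [[1, 2, 5, 56, 32, 16], [1, 2, 5, 63, 38, 23], [1, 28, 50, 8, 56, 32]]

/-- The images of the generators under the involution of type `m`. -/
def aImg (m : ℕ) : List ℕ := aImgT.getD m []

/-- The action of a generator: zero for the involution, one for the element of order seven. -/
noncomputable def gAct (m g x : ℕ) : ℕ := Bool.rec (qact wImg x) (qact (aImg m) x) (Nat.beq g (nat_lit 0))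

/-- The action of a word. -/
noncomputable def wAct (m : ℕ) (w : List ℕ) (x : ℕ) : ℕ :=
  List.rec x (fun g _ ih => force ih fun r => gAct m g r) w

/-- The product of a list of codes. -/
noncomputable def qprod (l : List ℕ) : ℕ := List.rec (nat_lit 0) (fun c _ ih => force ih fun r => qmul c r) l

theorem qprod_cons (c : ℕ) (l : List ℕ) : qprod (c :: l) = qmul c (qprod l) := force_eq _ _

theorem qmul_lt_ok : ∀ b < 2, ∀ x < 64, Nat.xor x (Nat.mul 64 b) < 128 := by decide +kernel

theorem qmul_lt (x y : ℕ) : qmul x y < 128 := by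
  have e : qmul x y = Nat.xor (Nat.land (Nat.xor x y) 63) (Nat.mul 64
      (Nat.xor (Nat.xor (Nat.land (x >>> 6) 1) (Nat.land (y >>> 6) 1)) (bl (lo y) (mid x)))) := by
    rw [qmul, force_eq, force_eq]
    rfl
  rw [e]
  exact qmul_lt_ok _ (Nat.xor_lt_two_pow (n := 1) (Nat.xor_lt_two_pow (n := 1) (Nat.lt_succ_of_le Nat.and_le_right)
    (Nat.lt_succ_of_le Nat.and_le_right)) (Nat.lt_succ_of_le Nat.and_le_right)) _
    (Nat.lt_succ_of_le Nat.and_le_right)

theorem qmul_zero_ok : ∀ x < 128, qmul 0 x = x ∧ qmul x 0 = x ∧ qmul x 64 = Nat.xor x 64 ∧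
    qmul 64 x = Nat.xor x 64 := by decide +kernel

theorem qinv_ok : ∀ a < 128, ∃ b < 128, qmul a b = 0 := by decide +kernel

theorem qprod_lt : ∀ l : List ℕ, qprod l < 128
  | [] => by show 0 < 128; norm_num
  | c :: l => by rw [qprod_cons]; exact qmul_lt _ _

end CfsgLib.HeShape
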