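/-
Two generators acting on a coded extraspecial group: relations and consequences.
-/
import Cfsg.Agent.Lib.HeShape.Code
import Mathlib.Algebra.Group.Subgroup.Basic
import Mathlib.Tactic.Group
import Mathlib.Data.Nat.Bitwise

set_option autoImplicit false
set_option maxRecDepth 10000

namespace CfsgLib.HeShape

open CfsgLib.CosetEnum

/-- The defining words in the two generators. -/
def relW : List (List ℕ) :=
  [[0, 0], [1, 0, 1, 0, 1, 0], [1, 1, 1, 1, 0, 1, 1, 1, 1, 0, 1, 1, 1, 1, 0, 1, 1, 1, 1, 0], [1, 1, 1, 1, 1, 1, 1]]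

/-- The codes of the values of the defining words. -/
def vals (r0 r1 r2 : ℕ) : List ℕ := [r0, r1, r2, 0]

/-- A coded extraspecial group with an involution of type `m` and an element of order seven. -/
structure Rels (H : Type*) [Group H] (m : ℕ) (val : List ℕ) where
  /-- the elements of the extraspecial group -/
  ι : ℕ → H
  hom : ∀ x < 128, ∀ y < 128, ι (qmul x y) = ι x * ι y
  inj : ∀ x < 128, ∀ y < 128, ι x = ι y → x = y
  /-- the two generators -/
  g : ℕ → H
  act : ∀ s < 2, ∀ x < 128, g s * ι x * (g s)⁻¹ = ι (gAct m s x)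
  rel : ∀ j < 4, ((relW.getD j []).map g).prod = ι (val.getD j 0)
  val_lt : ∀ j < 4, val.getD j 0 < 128

theorem qact_lt (im : List ℕ) (x : ℕ) : qact im x < 128 := by
  rw [qact, force_eq]
  exact Nat.xor_lt_two_pow (n := 7) (qmul_lt _ _) (Nat.lt_of_le_of_lt Nat.and_le_right (by norm_num))

theorem gAct_lt (m s x : ℕ) : gAct m s x < 128 := by
  unfold gAct
  cases Nat.beq s 0 <;> exact qact_lt _ _

theorem wAct_cons (m g : ℕ) (w : List ℕ) (x : ℕ) : wAct m (g :: w) x = gAct m g (wAct m w x) := force_eq _ _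

theorem wAct_lt (m : ℕ) {x : ℕ} (hx : x < 128) : ∀ w : List ℕ, wAct m w x < 128
  | [] => hx
  | g :: w => by rw [wAct_cons]; exact gAct_lt _ _ _

/-- The standard images. -/
def stdImg : List ℕ := [1, 2, 4, 8, 16, 32]

theorem qact_std : ∀ x < 128, qact stdImg x = x := by decide +kernel

theorem qact_z : ∀ x < 128, Nat.xor x 64 = qmul x 64 := by decide +kernel

variable {H : Type*} [Group H] {m : ℕ} {val : List ℕ}

/-- Products of codes in a coded group. -/
theorem ι_zero {ι : ℕ → H} (hom : ∀ x < 128, ∀ y < 128, ι (qmul x y) = ι x * ι y) : ι 0 = 1 := by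
  have h := hom 0 (by norm_num) 0 (by norm_num)
  rw [(qmul_zero_ok 0 (by norm_num)).1] at h
  simpa using h

theorem ι_qact {ι : ℕ → H} (hom : ∀ x < 128, ∀ y < 128, ι (qmul x y) = ι x * ι y) {im : List ℕ}
    (him : ∀ i < 6, im.getD i 0 < 128) (x : ℕ) :
    ι (qact im x) = ι (factor x 0 (im.getD 0 0)) * ι (factor x 1 (im.getD 1 0)) * ι (factor x 2 (im.getD 2 0)) *
      ι (factor x 3 (im.getD 3 0)) * ι (factor x 4 (im.getD 4 0)) * ι (factor x 5 (im.getD 5 0)) *
      ι (Nat.land x 64) := by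
  have hf : ∀ i < 6, factor x i (im.getD i 0) < 128 := fun i hi => by
    unfold factor
    cases Nat.testBit x i
    · exact (by norm_num : (0 : ℕ) < 128)
    · exact him i hi
  have h64 : Nat.land x 64 < 128 := Nat.lt_of_le_of_lt Nat.and_le_right (by norm_num)
  have hx : ∀ r < 128, ι (Nat.xor r (Nat.land x 64)) = ι r * ι (Nat.land x 64) := by
    intro r hr
    have hb : Nat.land x 64 = 0 ∨ Nat.land x 64 = 64 := by
      have h1 : x &&& 2 ^ 6 = (x.testBit 6).toNat * 2 ^ 6 := Nat.and_two_pow x 6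
      cases hb : x.testBit 6 <;> rw [hb] at h1 <;> [left; right] <;> simpa using h1
    rcases hb with e | e <;> rw [e]
    · show ι (r ^^^ 0) = _
      rw [Nat.xor_zero, ι_zero hom, mul_one]
    · rw [qact_z r hr, hom r hr 64 (by norm_num)]
  rw [qact, force_eq, hx _ (qmul_lt _ _), hom _ (qmul_lt _ _) _ (hf 5 (by norm_num)),
    hom _ (qmul_lt _ _) _ (hf 4 (by norm_num)), hom _ (qmul_lt _ _) _ (hf 3 (by norm_num)),
    hom _ (qmul_lt _ _) _ (hf 2 (by norm_num)), hom _ (hf 0 (by norm_num)) _ (hf 1 (by norm_num))]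

/-- Conjugation given on the generators acts by the substitution of the images. -/
theorem conj_qact {ι : ℕ → H} (hom : ∀ x < 128, ∀ y < 128, ι (qmul x y) = ι x * ι y) {im : List ℕ}
    (him : ∀ i < 6, im.getD i 0 < 128) (c : H) (hg : ∀ i < 6, c * ι (2 ^ i) * c⁻¹ = ι (im.getD i 0))
    (hz : c * ι 64 * c⁻¹ = ι 64) (x : ℕ) (hx : x < 128) : c * ι x * c⁻¹ = ι (qact im x) := by
  have hstd : ∀ i < 6, stdImg.getD i 0 = 2 ^ i := by decide
  have hs : ∀ i < 6, stdImg.getD i 0 < 128 := by decide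
  have hf : ∀ i < 6, c * ι (factor x i (stdImg.getD i 0)) * c⁻¹ = ι (factor x i (im.getD i 0)) := fun i hi => by
    unfold factor
    cases Nat.testBit x i
    · show c * ι 0 * c⁻¹ = ι 0
      simp [ι_zero hom]
    · show c * ι (stdImg.getD i 0) * c⁻¹ = ι (im.getD i 0)
      rw [hstd i hi, hg i hi]
  have hl : c * ι (Nat.land x 64) * c⁻¹ = ι (Nat.land x 64) := by
    have h1 : x &&& 2 ^ 6 = (x.testBit 6).toNat * 2 ^ 6 := Nat.and_two_pow x 6
    cases hb : x.testBit 6 <;> rw [hb] at h1
    · rw [show Nat.land x 64 = 0 by simpa using h1]; simp [ι_zero hom]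
    · rw [show Nat.land x 64 = 64 by simpa using h1, hz]
  conv_lhs => rw [← qact_std x hx, ι_qact hom hs]
  rw [ι_qact hom him, ← hf 0 (by norm_num), ← hf 1 (by norm_num), ← hf 2 (by norm_num), ← hf 3 (by norm_num),
    ← hf 4 (by norm_num), ← hf 5 (by norm_num)]
  conv_rhs => rw [← hl]
  group

namespace Rels

variable (R : Rels H m val)

/-- The element of a word. -/
def el (w : List ℕ) : H := (w.map R.g).prod

theorem el_append (v w : List ℕ) : R.el (v ++ w) = R.el v * R.el w := by
  simp [el]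

theorem conj_el {x : ℕ} (hx : x < 128) : ∀ w : List ℕ, (∀ s ∈ w, s < 2) →
    R.el w * R.ι x * (R.el w)⁻¹ = R.ι (wAct m w x)
  | [], _ => by simp [el, wAct]
  | s :: w, h => by
    have ih := conj_el hx w fun r hr => h r (List.mem_cons_of_mem _ hr)
    rw [wAct_cons, ← R.act s (h s List.mem_cons_self) _ (wAct_lt m hx w), ← ih,
      show R.el (s :: w) = R.g s * R.el w by simp [el]]
    group

theorem ι_qprod : ∀ l : List ℕ, (∀ c ∈ l, c < 128) → R.ι (qprod l) = (l.map R.ι).prod
  | [], _ => by simp [qprod, ι_zero R.hom]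
  | c :: l, h => by
    rw [qprod_cons, R.hom _ (h c List.mem_cons_self) _ (qprod_lt l),
      ι_qprod l fun d hd => h d (List.mem_cons_of_mem _ hd)]
    simp

end Rels

end CfsgLib.HeShape
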