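/-
The involutions of the form compatible with the element of order seven.
-/
import Cfsg.Agent.Lib.HeShape.Frame
import Mathlib.Tactic.IntervalCases

set_option autoImplicit false
set_option maxRecDepth 20000

namespace CfsgLib.HeShape

open CfsgLib.CosetEnum

theorem allN_intro {f : ℕ → Bool} : ∀ {m : ℕ}, (∀ i < m, f i = true) → allN m f = true
  | 0, _ => rfl
  | m + 1, h => by
    show (f m && allN m f) = true
    rw [h m (Nat.lt_succ_self m), allN_intro fun i hi => h i (Nat.lt_succ_of_lt hi)]
    rfl

/-- The linear map with the given images. -/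
noncomputable def lin (v : List ℕ) (x : ℕ) : ℕ :=
  Nat.xor (Nat.xor (Nat.xor (Nat.xor (Nat.xor (factor x 0 (v.getD 0 0)) (factor x 1 (v.getD 1 0)))
    (factor x 2 (v.getD 2 0))) (factor x 3 (v.getD 3 0))) (factor x 4 (v.getD 4 0))) (factor x 5 (v.getD 5 0))

/-- The linear action of a word. -/
noncomputable def linW (v : List ℕ) (w : List ℕ) (x : ℕ) : ℕ :=
  List.rec x (fun g _ ih => force ih fun r => Bool.rec (lin wImg r) (lin v r) (Nat.beq g (nat_lit 0))) w

/-- The relation holds linearly. -/
noncomputable def linRel (v : List ℕ) (w : List ℕ) : Bool :=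
  allN 6 fun i => force (Nat.shiftLeft (nat_lit 1) i) fun b => Nat.beq (linW v w b) b

/-- The isometry conditions at one level. -/
noncomputable def lvlOK (acc : List ℕ) (x : ℕ) : Bool :=
  Nat.beq (qmul x x) (nat_lit 0) && allN acc.length fun j =>
    Nat.beq (cbit (acc.getD j 0) x) (cbit (Nat.shiftLeft (nat_lit 1) j) (Nat.shiftLeft (nat_lit 1) acc.length))

/-- The packed images. -/
noncomputable def pack6 (v : List ℕ) : ℕ :=
  List.rec (nat_lit 0) (fun x _ ih => Nat.add x (Nat.mul (nat_lit 64) ih)) v

/-- The standard element of order three. -/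
def rImg : List ℕ := [1, 4, 6, 8, 32, 56]

/-- The elements of order three normalising the element of order seven, with a conjugating power. -/
def rSols : List (ℕ × ℕ) := [(60668535041, 0), (26445115586, 1), (9003078083, 3), (52487541124, 2), (43230703749, 6), (17999864134, 4), (34500264007, 5)]

/-- The involutions inverting the standard element of order three, with a conjugating power and the type. -/
def tSols : List (ℕ × ℕ × ℕ) := [(35301368065, 3, 0), (41777373441, 3, 1), (35301566209, 0, 2)]

/-- The extra condition on the element of order three at one level. -/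
noncomputable def extraR (acc : List ℕ) (x : ℕ) : Bool :=
  Nat.beq acc.length 0 || (Nat.beq acc.length 3 || Nat.beq x (lin wImg (lin wImg (acc.getD (Nat.pred acc.length) 0))))

/-- The extra condition on the involution at one level. -/
noncomputable def extraT (acc : List ℕ) (x : ℕ) : Bool :=
  cond (Nat.beq acc.length 0 || Nat.beq acc.length 3) (Nat.beq (lin rImg x) x)
    (cond (Nat.beq acc.length 2) (Nat.beq (lin rImg x) (acc.getD 1 0))
      (cond (Nat.beq acc.length 5) (Nat.beq (lin rImg x) (acc.getD 4 0)) true))

/-- The conditions at the last level for the element of order three. -/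
noncomputable def leafR (v : List ℕ) : Bool :=
  !(allN 6 fun i => force (Nat.shiftLeft (nat_lit 1) i) fun b =>
      Nat.beq (lin v (lin wImg b)) (lin wImg (lin wImg (lin v b)))) ||
    rSols.any fun s => Nat.beq s.1 (pack6 v) &&
      allN 6 fun i => force (Nat.shiftLeft (nat_lit 1) i) fun b =>
        Nat.beq (linW v (List.replicate s.2 1 ++ 0 :: List.replicate (Nat.sub 7 s.2) 1) b) (lin rImg b)

/-- The conditions at the last level for the involution. -/
noncomputable def leafT (v : List ℕ) : Bool :=
  !((allN 6 fun i => force (Nat.shiftLeft (nat_lit 1) i) fun b =>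
      Nat.beq (lin v (lin rImg b)) (lin rImg (lin rImg (lin v b)))) &&
      (linRel v [0, 0] && (linRel v [1, 0, 1, 0, 1, 0] &&
        linRel v [1, 1, 1, 1, 0, 1, 1, 1, 1, 0, 1, 1, 1, 1, 0, 1, 1, 1, 1, 0]))) ||
    tSols.any fun s => Nat.beq s.1 (pack6 v) && (Nat.blt s.2.2 3 &&
      allN 6 fun i => force (Nat.shiftLeft (nat_lit 1) i) fun b =>
        Nat.beq (linW v (List.replicate s.2.1 1 ++ 0 :: List.replicate (Nat.sub 7 s.2.1) 1) b)
          (lin (aImg s.2.2) b))

/-- The search over the images. -/
noncomputable def dfs (ex : List ℕ → ℕ → Bool) (leaf : List ℕ → Bool) (n : ℕ) : List ℕ → Bool :=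
  Nat.rec (motive := fun _ => List ℕ → Bool) leaf
    (fun _ ih acc => allN 64 fun x' => force x' fun x => !(ex acc x && lvlOK acc x) || ih (acc ++ [x])) n

theorem dfs_spec {ex : List ℕ → ℕ → Bool} {leaf : List ℕ → Bool} : ∀ (n : ℕ) (acc v : List ℕ),
    dfs ex leaf n acc = true → v.length = n → (∀ x ∈ v, x < 64) →
    (∀ i < n, ex (acc ++ v.take i) (v.getD i 0) = true ∧ lvlOK (acc ++ v.take i) (v.getD i 0) = true) →
    leaf (acc ++ v) = true
  | 0, acc, v, h, hl, _, _ => by rwa [List.length_eq_zero_iff.mp hl, List.append_nil]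
  | n + 1, acc, [], _, hl, _, _ => by simp at hl
  | n + 1, acc, x :: v, h, hl, hv, hi => by
    have h' : allN 64 (fun x' => force x' fun x => !(ex acc x && lvlOK acc x) || dfs ex leaf n (acc ++ [x])) = true := h
    have h1 := allN_spec h' x (hv x List.mem_cons_self)
    have h2 : ex acc x = true ∧ lvlOK acc x = true := by simpa using hi 0 (Nat.succ_pos n)
    rw [force_eq, h2.1, h2.2, Bool.and_self, Bool.not_true, Bool.false_or] at h1
    have h3 := dfs_spec n (acc ++ [x]) v h1 (by simpa using hl) (fun y hy => hv y (List.mem_cons_of_mem _ hy))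
      fun i hi' => by simpa [List.append_assoc] using hi (i + 1) (Nat.succ_lt_succ hi')
    simpa [List.append_assoc] using h3

theorem searchR_ok : dfs extraR leafR 6 [] = true := by decide +kernel

theorem searchT_ok : dfs extraT leafT 6 [] = true := by decide +kernel

end CfsgLib.HeShape
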