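/-
Sixty-four points with an alternating form and an isometry of order seven.
-/
import Cfsg.Agent.Lib.HeShape.Code
import Mathlib.Data.ZMod.Basic
import Mathlib.Data.Fintype.Pi
import Mathlib.Data.Fintype.Prod
import Mathlib.SetTheory.Cardinal.Finite
import Mathlib.Algebra.CharP.Two
import Mathlib.Tactic.Abel
import Mathlib.Tactic.IntervalCases

set_option autoImplicit false
set_option maxRecDepth 10000

namespace CfsgLib.HeShape

variable {V : Type*} [AddCommGroup V]

/-- A summand selected by a bit. -/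
def sel (b : Bool) (v : V) : V := cond b v 0

/-- The combination with the given coefficient bits. -/
def comb (a b c : V) (x : ℕ) : V := sel (x.testBit 0) a + sel (x.testBit 1) b + sel (x.testBit 2) c

theorem sel_xor (h2 : ∀ v : V, v + v = 0) (p q : Bool) (v : V) : sel (p ^^ q) v = sel p v + sel q v := by
  cases p <;> cases q <;> simp [sel, h2]

theorem comb_xor (h2 : ∀ v : V, v + v = 0) (a b c : V) (x y : ℕ) :
    comb a b c (x ^^^ y) = comb a b c x + comb a b c y := by
  simp only [comb, Nat.testBit_xor, sel_xor h2]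
  abel

theorem eq_of_xor_zero {a b : ℕ} (h : a ^^^ b = 0) : a = b := Nat.eq_of_testBit_eq fun i => by
  simpa using congrArg (Nat.testBit · i) h

/-- An isometry of order seven of an alternating form on a space of order sixty-four. -/
structure Seven (V : Type*) [AddCommGroup V] where
  h2 : ∀ v : V, v + v = 0
  card : Nat.card V = 64
  /-- the isometry -/
  W : V →+ V
  h7 : ∀ v, W (W (W (W (W (W (W v)))))) = v
  moves : ∃ v, W v ≠ v
  /-- the form -/
  B : V → V → ZMod 2
  addl : ∀ x y z, B (x + y) z = B x z + B y z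
  addr : ∀ x y z, B x (y + z) = B x y + B x z
  symm : ∀ x y, B x y = B y x
  nondeg : ∀ x, (∀ y, B x y = 0) → x = 0
  inv : ∀ x y, B (W x) (W y) = B x y

namespace Seven

variable (S : Seven V)

include S in
theorem cancel (x y : V) : x + y + y = x := by rw [add_assoc, S.h2, add_zero]

include S in
theorem eq_of_add {x y : V} (h : x + y = 0) : x = y := by
  rw [← S.cancel x y, h, zero_add]

include S in
theorem two_nsmul_zero (v : V) : (2 : ℕ) • v = 0 := by rw [two_nsmul]; exact S.h2 v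

include S in
theorem two_zsmul_zero (v : V) : (2 : ℤ) • v = 0 := by rw [two_zsmul]; exact S.h2 v

include S in
theorem three_nsmul_eq (v : V) : (3 : ℕ) • v = v := by rw [succ_nsmul, S.two_nsmul_zero, zero_add]

include S in
theorem three_zsmul_eq (v : V) : (3 : ℤ) • v = v := by
  rw [show (3 : ℤ) = 2 + 1 from rfl, add_zsmul, S.two_zsmul_zero, one_zsmul, zero_add]

theorem W_inj {x y : V} (h : S.W x = S.W y) : x = y := by rw [← S.h7 x, h, S.h7]

/-- The first kernel. -/
def InA (v : V) : Prop := S.W (S.W (S.W v)) = S.W v + v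

/-- The second kernel. -/
def InB (v : V) : Prop := S.W (S.W (S.W v)) = S.W (S.W v) + v

theorem inA_W {v : V} (h : S.InA v) : S.InA (S.W v) := by
  exact (congrArg S.W h).trans (map_add _ _ _)

theorem inB_W {v : V} (h : S.InB v) : S.InB (S.W v) := by
  exact (congrArg S.W h).trans (map_add _ _ _)

theorem inA_zero : S.InA 0 := by simp [InA]

theorem inB_zero : S.InB 0 := by simp [InB]

theorem inA_add {u v : V} (hu : S.InA u) (hv : S.InA v) : S.InA (u + v) := by
  show S.W (S.W (S.W (u + v))) = _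
  simp only [map_add, show S.W (S.W (S.W u)) = _ from hu, show S.W (S.W (S.W v)) = _ from hv]
  abel

theorem inB_add {u v : V} (hu : S.InB u) (hv : S.InB v) : S.InB (u + v) := by
  show S.W (S.W (S.W (u + v))) = _
  simp only [map_add, show S.W (S.W (S.W u)) = _ from hu, show S.W (S.W (S.W v)) = _ from hv]
  abel

theorem inA_inB {v : V} (ha : S.InA v) (hb : S.InB v) : v = 0 := by
  have h1 : S.W v + v = S.W (S.W v) + v := ha.symm.trans hb
  have h2 : S.W v = v := (S.W_inj (add_right_cancel h1)).symm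
  have h3 := ha
  unfold InA at h3
  rw [h2, h2, h2, S.h2] at h3
  exact h3

theorem powA {v : V} (h : S.InA v) : S.W (S.W (S.W (S.W v))) = S.W (S.W v) + S.W v ∧
    S.W (S.W (S.W (S.W (S.W v)))) = S.W (S.W v) + S.W v + v ∧
    S.W (S.W (S.W (S.W (S.W (S.W v))))) = S.W (S.W v) + v := by
  unfold InA at h
  refine ⟨by rw [h, map_add], ?_, ?_⟩ <;> simp only [h, map_add] <;> abel_nf <;>
    simp only [S.two_nsmul_zero, S.two_zsmul_zero, S.three_nsmul_eq, S.three_zsmul_eq, zero_add, add_zero]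

theorem powB {v : V} (h : S.InB v) : S.W (S.W (S.W (S.W v))) = S.W (S.W v) + S.W v + v ∧
    S.W (S.W (S.W (S.W (S.W v)))) = S.W v + v ∧
    S.W (S.W (S.W (S.W (S.W (S.W v))))) = S.W (S.W v) + S.W v := by
  unfold InB at h
  refine ⟨?_, ?_, ?_⟩ <;> simp only [h, map_add] <;> abel_nf <;>
    simp only [S.two_nsmul_zero, S.two_zsmul_zero, S.three_nsmul_eq, S.three_zsmul_eq, zero_add, add_zero]

theorem B_zero (x : V) : S.B x 0 = 0 := by
  have h := S.addr x 0 0
  rwa [add_zero, left_eq_add] at h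

theorem B_shift (k : ℕ) (x y : V) : S.B ((⇑S.W)^[k] x) ((⇑S.W)^[k] y) = S.B x y := by
  induction k with
  | zero => rfl
  | succ k ih => rw [Function.iterate_succ_apply', Function.iterate_succ_apply', S.inv, ih]

theorem A_orth {u v : V} (hu : S.InA u) (hv : S.InA v) : S.B u v = 0 := by
  have e : v = S.W (S.W (S.W (S.W (S.W (S.W v))))) + S.W (S.W (S.W (S.W (S.W v)))) + S.W (S.W (S.W v)) := by
    rw [(S.powA hv).2.2, (S.powA hv).2.1, show S.W (S.W (S.W v)) = S.W v + v from hv]
    abel_nf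
    simp only [S.two_nsmul_zero, S.two_zsmul_zero, S.three_nsmul_eq, S.three_zsmul_eq, zero_add, add_zero]
  have h6 : S.B u (S.W (S.W (S.W (S.W (S.W (S.W v)))))) = S.B (S.W u) v := by
    rw [← S.inv u, S.h7]
  have h5 : S.B u (S.W (S.W (S.W (S.W (S.W v))))) = S.B (S.W (S.W u)) v := by
    rw [← S.inv u, ← S.inv (S.W u), S.h7]
  have h3 : S.B u (S.W (S.W (S.W v))) = S.B (S.W (S.W (S.W (S.W u)))) v := by
    rw [← S.inv u, ← S.inv (S.W u), ← S.inv (S.W (S.W u)), ← S.inv (S.W (S.W (S.W u))), S.h7]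
  calc S.B u v = _ := congrArg (S.B u) e
    _ = 0 := by
      rw [S.addr, S.addr, h6, h5, h3, (S.powA hu).1, S.addl]
      abel_nf
      simp [show (2 : ZMod 2) = 0 from rfl, two_nsmul, CharTwo.add_self_eq_zero]

theorem B_orth {u v : V} (hu : S.InB u) (hv : S.InB v) : S.B u v = 0 := by
  have e : v = S.W (S.W (S.W (S.W v))) + S.W (S.W v) + S.W v := by
    rw [(S.powB hv).1]
    abel_nf
    simp only [S.two_nsmul_zero, S.two_zsmul_zero, S.three_nsmul_eq, S.three_zsmul_eq, zero_add, add_zero]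
  have h4 : S.B u (S.W (S.W (S.W (S.W v)))) = S.B (S.W (S.W (S.W u))) v := by
    rw [← S.inv u, ← S.inv (S.W u), ← S.inv (S.W (S.W u)), S.h7]
  have h2' : S.B u (S.W (S.W v)) = S.B (S.W (S.W (S.W (S.W (S.W u))))) v := by
    rw [← S.inv u, ← S.inv (S.W u), ← S.inv (S.W (S.W u)), ← S.inv (S.W (S.W (S.W u))),
      ← S.inv (S.W (S.W (S.W (S.W u)))), S.h7]
  have h1 : S.B u (S.W v) = S.B (S.W (S.W (S.W (S.W (S.W (S.W u)))))) v := by
    rw [← S.inv u, ← S.inv (S.W u), ← S.inv (S.W (S.W u)), ← S.inv (S.W (S.W (S.W u))),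
      ← S.inv (S.W (S.W (S.W (S.W u)))), ← S.inv (S.W (S.W (S.W (S.W (S.W u))))), S.h7]
  calc S.B u v = _ := congrArg (S.B u) e
    _ = 0 := by
      rw [S.addr, S.addr, h4, h2', h1, (S.powB hu).2.2, (S.powB hu).2.1,
        show S.W (S.W (S.W u)) = S.W (S.W u) + u from hu, S.addl, S.addl, S.addl]
      abel_nf
      simp [show (2 : ZMod 2) = 0 from rfl, two_nsmul, CharTwo.add_self_eq_zero]

theorem A_fix {u f : V} (hu : S.InA u) (hf : S.W f = f) : S.B u f = 0 := by
  have e : u = S.W (S.W (S.W (S.W (S.W u)))) + S.W (S.W (S.W (S.W u))) := by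
    rw [(S.powA hu).2.1, (S.powA hu).1]
    abel_nf
    simp only [S.two_nsmul_zero, S.two_zsmul_zero, S.three_nsmul_eq, S.three_zsmul_eq, zero_add, add_zero]
  calc S.B u f = _ := congrArg (fun z => S.B z f) e
    _ = 0 := by
      rw [S.addl, show S.B (S.W (S.W (S.W (S.W (S.W u))))) f = S.B (S.W (S.W (S.W (S.W (S.W u))))) (S.W f) by rw [hf],
        S.inv, CharTwo.add_self_eq_zero]

theorem B_fix {u f : V} (hu : S.InB u) (hf : S.W f = f) : S.B u f = 0 := by
  have e : u = S.W (S.W (S.W u)) + S.W (S.W u) := by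
    rw [show S.W (S.W (S.W u)) = S.W (S.W u) + u from hu]
    abel_nf
    simp only [S.two_nsmul_zero, S.two_zsmul_zero, S.three_nsmul_eq, S.three_zsmul_eq, zero_add, add_zero]
  calc S.B u f = _ := congrArg (fun z => S.B z f) e
    _ = 0 := by
      rw [S.addl, show S.B (S.W (S.W (S.W u))) f = S.B (S.W (S.W (S.W u))) (S.W f) by rw [hf],
        S.inv, CharTwo.add_self_eq_zero]

theorem decompose (v : V) : ∃ p q f, S.InA p ∧ S.InB q ∧ S.W f = f ∧ v = p + q + f := by
  refine ⟨v + S.W v + S.W (S.W v) + S.W (S.W (S.W (S.W v))),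
    v + S.W (S.W (S.W v)) + S.W (S.W (S.W (S.W (S.W v)))) + S.W (S.W (S.W (S.W (S.W (S.W v))))),
    v + S.W v + S.W (S.W v) + S.W (S.W (S.W v)) + S.W (S.W (S.W (S.W v))) + S.W (S.W (S.W (S.W (S.W v)))) +
      S.W (S.W (S.W (S.W (S.W (S.W v))))), ?_, ?_, ?_, ?_⟩
  · show S.W (S.W (S.W _)) = _
    simp only [map_add, S.h7]
    abel_nf
    simp only [S.two_nsmul_zero, S.two_zsmul_zero, S.three_nsmul_eq, S.three_zsmul_eq, zero_add, add_zero]
  · show S.W (S.W (S.W _)) = _
    simp only [map_add, S.h7]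
    abel_nf
    simp only [S.two_nsmul_zero, S.two_zsmul_zero, S.three_nsmul_eq, S.three_zsmul_eq, zero_add, add_zero]
  · simp only [map_add, S.h7]
    abel
  · abel_nf
    simp only [S.two_nsmul_zero, S.two_zsmul_zero, S.three_nsmul_eq, S.three_zsmul_eq, zero_add, add_zero]

theorem exists_inA : ∃ a, S.InA a ∧ a ≠ 0 := by
  by_contra hne
  push Not at hne
  obtain ⟨v, hv⟩ := S.moves
  obtain ⟨p, q, f, hp, hq, hf, rfl⟩ := S.decompose v
  have hq0 : q = 0 := by
    refine S.nondeg q fun y => ?_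
    obtain ⟨p', q', f', hp', hq', hf', rfl⟩ := S.decompose y
    rw [hne p' hp', zero_add, S.addr, S.B_orth hq hq', S.B_fix hq hf', add_zero]
  rw [hne p hp, hq0, zero_add, zero_add] at hv
  exact hv hf

theorem exists_inB : ∃ a, S.InB a ∧ a ≠ 0 := by
  by_contra hne
  push Not at hne
  obtain ⟨v, hv⟩ := S.moves
  obtain ⟨p, q, f, hp, hq, hf, rfl⟩ := S.decompose v
  have hp0 : p = 0 := by
    refine S.nondeg p fun y => ?_
    obtain ⟨p', q', f', hp', hq', hf', rfl⟩ := S.decompose y
    rw [hne q' hq', add_zero, S.addr, S.A_orth hp hp', S.A_fix hp hf', add_zero]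
  rw [hne q hq, hp0, zero_add, zero_add] at hv
  exact hv hf

/-- The combinations of the orbit of an element of the first kernel. -/
def cA (a : V) (x : ℕ) : V := comb a (S.W a) (S.W (S.W a)) x

theorem cA_mem {a : V} (ha : S.InA a) (x : ℕ) : S.InA (S.cA a x) := by
  have h : ∀ (p : Bool) (v : V), S.InA v → S.InA (sel p v) := fun p v hv => by
    cases p <;> [exact S.inA_zero; exact hv]
  exact S.inA_add (S.inA_add (h _ _ ha) (h _ _ (S.inA_W ha))) (h _ _ (S.inA_W (S.inA_W ha)))

theorem cA_mem_B {a : V} (ha : S.InB a) (x : ℕ) : S.InB (S.cA a x) := by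
  have h : ∀ (p : Bool) (v : V), S.InB v → S.InB (sel p v) := fun p v hv => by
    cases p <;> [exact S.inB_zero; exact hv]
  exact S.inB_add (S.inB_add (h _ _ ha) (h _ _ (S.inB_W ha))) (h _ _ (S.inB_W (S.inB_W ha)))

theorem cA_ne {a : V} (ha : S.InA a) (h0 : a ≠ 0) {x : ℕ} (hx : x < 8) (hx0 : x ≠ 0) : S.cA a x ≠ 0 := by
  obtain ⟨h4, h5, h6⟩ := S.powA ha
  have h3 := ha
  unfold InA at h3
  have hz : ∀ (n : ℕ) (v : V), (⇑S.W)^[n] v = 0 → v = 0 := fun n => by
    induction n with
    | zero => intro v h; exact h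
    | succ n ih => intro v h; exact S.W_inj ((ih _ (by rwa [Function.iterate_succ_apply] at h)).trans (map_zero S.W).symm)
  have key : ∀ n : ℕ, (⇑S.W)^[n] a = S.cA a x → S.cA a x ≠ 0 := fun n e e0 => h0 (hz n a (e.trans e0))
  interval_cases x
  · exact absurd rfl hx0
  · refine key 0 ?_
    show a = comb a (S.W a) (S.W (S.W a)) 1
    skip
    simp only [comb, sel, show Nat.testBit 1 0 = true from rfl, show Nat.testBit 1 1 = false from rfl,
      show Nat.testBit 1 2 = false from rfl, cond_true, cond_false]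
    abel
  · refine key 1 ?_
    show (S.W a) = comb a (S.W a) (S.W (S.W a)) 2
    skip
    simp only [comb, sel, show Nat.testBit 2 0 = false from rfl, show Nat.testBit 2 1 = true from rfl,
      show Nat.testBit 2 2 = false from rfl, cond_true, cond_false]
    abel
  · refine key 3 ?_
    show (S.W (S.W (S.W a))) = comb a (S.W a) (S.W (S.W a)) 3
    rw [h3]
    simp only [comb, sel, show Nat.testBit 3 0 = true from rfl, show Nat.testBit 3 1 = true from rfl,
      show Nat.testBit 3 2 = false from rfl, cond_true, cond_false]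
    abel
  · refine key 2 ?_
    show (S.W (S.W a)) = comb a (S.W a) (S.W (S.W a)) 4
    skip
    simp only [comb, sel, show Nat.testBit 4 0 = false from rfl, show Nat.testBit 4 1 = false from rfl,
      show Nat.testBit 4 2 = true from rfl, cond_true, cond_false]
    abel
  · refine key 6 ?_
    show (S.W (S.W (S.W (S.W (S.W (S.W a)))))) = comb a (S.W a) (S.W (S.W a)) 5
    rw [h6]
    simp only [comb, sel, show Nat.testBit 5 0 = true from rfl, show Nat.testBit 5 1 = false from rfl,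
      show Nat.testBit 5 2 = true from rfl, cond_true, cond_false]
    abel
  · refine key 4 ?_
    show (S.W (S.W (S.W (S.W a)))) = comb a (S.W a) (S.W (S.W a)) 6
    rw [h4]
    simp only [comb, sel, show Nat.testBit 6 0 = false from rfl, show Nat.testBit 6 1 = true from rfl,
      show Nat.testBit 6 2 = true from rfl, cond_true, cond_false]
    abel
  · refine key 5 ?_
    show (S.W (S.W (S.W (S.W (S.W a))))) = comb a (S.W a) (S.W (S.W a)) 7
    rw [h5]
    simp only [comb, sel, show Nat.testBit 7 0 = true from rfl, show Nat.testBit 7 1 = true from rfl,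
      show Nat.testBit 7 2 = true from rfl, cond_true, cond_false]
    abel

theorem cB_ne {a : V} (ha : S.InB a) (h0 : a ≠ 0) {x : ℕ} (hx : x < 8) (hx0 : x ≠ 0) : S.cA a x ≠ 0 := by
  obtain ⟨h4, h5, h6⟩ := S.powB ha
  have h3 := ha
  unfold InB at h3
  have hz : ∀ (n : ℕ) (v : V), (⇑S.W)^[n] v = 0 → v = 0 := fun n => by
    induction n with
    | zero => intro v h; exact h
    | succ n ih => intro v h; exact S.W_inj ((ih _ (by rwa [Function.iterate_succ_apply] at h)).trans (map_zero S.W).symm)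
  have key : ∀ n : ℕ, (⇑S.W)^[n] a = S.cA a x → S.cA a x ≠ 0 := fun n e e0 => h0 (hz n a (e.trans e0))
  interval_cases x
  · exact absurd rfl hx0
  · refine key 0 ?_
    show a = comb a (S.W a) (S.W (S.W a)) 1
    skip
    simp only [comb, sel, show Nat.testBit 1 0 = true from rfl, show Nat.testBit 1 1 = false from rfl,
      show Nat.testBit 1 2 = false from rfl, cond_true, cond_false]
    abel
  · refine key 1 ?_
    show (S.W a) = comb a (S.W a) (S.W (S.W a)) 2
    skip
    simp only [comb, sel, show Nat.testBit 2 0 = false from rfl, show Nat.testBit 2 1 = true from rfl,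
      show Nat.testBit 2 2 = false from rfl, cond_true, cond_false]
    abel
  · refine key 5 ?_
    show (S.W (S.W (S.W (S.W (S.W a))))) = comb a (S.W a) (S.W (S.W a)) 3
    rw [h5]
    simp only [comb, sel, show Nat.testBit 3 0 = true from rfl, show Nat.testBit 3 1 = true from rfl,
      show Nat.testBit 3 2 = false from rfl, cond_true, cond_false]
    abel
  · refine key 2 ?_
    show (S.W (S.W a)) = comb a (S.W a) (S.W (S.W a)) 4
    skip
    simp only [comb, sel, show Nat.testBit 4 0 = false from rfl, show Nat.testBit 4 1 = false from rfl,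
      show Nat.testBit 4 2 = true from rfl, cond_true, cond_false]
    abel
  · refine key 3 ?_
    show (S.W (S.W (S.W a))) = comb a (S.W a) (S.W (S.W a)) 5
    rw [h3]
    simp only [comb, sel, show Nat.testBit 5 0 = true from rfl, show Nat.testBit 5 1 = false from rfl,
      show Nat.testBit 5 2 = true from rfl, cond_true, cond_false]
    abel
  · refine key 6 ?_
    show (S.W (S.W (S.W (S.W (S.W (S.W a)))))) = comb a (S.W a) (S.W (S.W a)) 6
    rw [h6]
    simp only [comb, sel, show Nat.testBit 6 0 = false from rfl, show Nat.testBit 6 1 = true from rfl,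
      show Nat.testBit 6 2 = true from rfl, cond_true, cond_false]
    abel
  · refine key 4 ?_
    show (S.W (S.W (S.W (S.W a)))) = comb a (S.W a) (S.W (S.W a)) 7
    rw [h4]
    simp only [comb, sel, show Nat.testBit 7 0 = true from rfl, show Nat.testBit 7 1 = true from rfl,
      show Nat.testBit 7 2 = true from rfl, cond_true, cond_false]
    abel

theorem span {a b : V} (ha : S.InA a) (ha0 : a ≠ 0) (hb : S.InB b) (hb0 : b ≠ 0) (v : V) :
    ∃ x < 8, ∃ y < 8, v = S.cA a x + S.cA b y := by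
  haveI : Finite V := Nat.finite_of_card_ne_zero (by rw [S.card]; norm_num)
  have hinj : Function.Injective fun p : Fin 8 × Fin 8 => S.cA a p.1 + S.cA b p.2 := by
    rintro ⟨x, y⟩ ⟨x', y'⟩ h
    have e : S.cA a (x.1 ^^^ x'.1) = S.cA b (y.1 ^^^ y'.1) := by
      refine S.eq_of_add ?_
      unfold cA
      rw [comb_xor S.h2, comb_xor S.h2, show comb a _ _ x.1 + comb a _ _ x'.1 + (comb b _ _ y.1 + comb b _ _ y'.1) =
        (comb a (S.W a) (S.W (S.W a)) x.1 + comb b (S.W b) (S.W (S.W b)) y.1) +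
          (comb a (S.W a) (S.W (S.W a)) x'.1 + comb b (S.W b) (S.W (S.W b)) y'.1) by abel]
      exact (congrArg (· + _) h).trans (S.h2 _)
    have z := S.inA_inB (S.cA_mem ha (x.1 ^^^ x'.1)) (e ▸ S.cA_mem_B hb (y.1 ^^^ y'.1))
    have hx : x.1 ^^^ x'.1 = 0 := by
      by_contra hne
      exact S.cA_ne ha ha0 (Nat.xor_lt_two_pow (n := 3) x.2 x'.2) hne z
    have hy : y.1 ^^^ y'.1 = 0 := by
      by_contra hne
      exact S.cB_ne hb hb0 (Nat.xor_lt_two_pow (n := 3) y.2 y'.2) hne (e ▸ z)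
    exact Prod.ext (Fin.ext (eq_of_xor_zero hx)) (Fin.ext (eq_of_xor_zero hy))
  obtain ⟨p, hp⟩ := ((Nat.bijective_iff_injective_and_card _).mpr ⟨hinj, by
    rw [S.card, Nat.card_prod, Nat.card_fin]⟩).2 v
  exact ⟨p.1, p.1.2, p.2, p.2.2, hp.symm⟩

theorem B_sel_right (x : V) (p : Bool) (v : V) : S.B x (sel p v) = cond p (S.B x v) 0 := by
  cases p <;> simp [sel, S.B_zero]

/-- A symplectic basis adapted to the isometry. -/
theorem frame : ∃ a b : V, S.InA a ∧ S.InB b ∧
    (∀ x < 8, ∀ x' < 8, S.B (S.cA a x) (S.cA a x') = 0 ∧ S.B (S.cA b x) (S.cA b x') = 0) ∧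
    (∀ x < 8, ∀ y < 8, S.B (S.cA a x) (S.cA b y) = (bl x y : ZMod 2)) ∧
    ∀ v, ∃ x < 8, ∃ y < 8, v = S.cA a x + S.cA b y := by
  obtain ⟨a, ha, ha0⟩ := S.exists_inA
  obtain ⟨b₁, hb₁, hb₁0⟩ := S.exists_inB
  let ψ : Fin 8 → ZMod 2 × ZMod 2 × ZMod 2 := fun y =>
    (S.B a (S.cA b₁ y), S.B (S.W a) (S.cA b₁ y), S.B (S.W (S.W a)) (S.cA b₁ y))
  have hψ : Function.Injective ψ := by
    intro y y' h
    have hz : S.cA b₁ (y.1 ^^^ y'.1) = 0 := by
      refine S.nondeg _ fun v => ?_
      obtain ⟨p, hp, q, hq, rfl⟩ := S.span ha ha0 hb₁ hb₁0 v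
      rw [S.addr, S.B_orth (S.cA_mem_B hb₁ _) (S.cA_mem_B hb₁ _), add_zero, S.symm]
      rw [show S.cA b₁ (y.1 ^^^ y'.1) = S.cA b₁ y.1 + S.cA b₁ y'.1 from comb_xor S.h2 _ _ _ _ _, S.addr]
      simp only [ψ, Prod.mk.injEq] at h
      obtain ⟨h1, h2, h3⟩ := h
      generalize S.cA b₁ y.1 = u at h1 h2 h3 ⊢
      generalize S.cA b₁ y'.1 = u' at h1 h2 h3 ⊢
      have z0 : ∀ z, S.B 0 z = 0 := fun z => by rw [S.symm, S.B_zero]
      simp only [cA, comb]
      cases p.testBit 0 <;> cases p.testBit 1 <;> cases p.testBit 2 <;>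
        simp [sel, S.addl, h1, h2, h3, z0, CharTwo.add_self_eq_zero]
    by_contra hne
    exact S.cB_ne hb₁ hb₁0 (Nat.xor_lt_two_pow (n := 3) y.2 y'.2)
      (fun e => hne (Fin.ext (eq_of_xor_zero e))) hz
  obtain ⟨y, hy⟩ := ((Nat.bijective_iff_injective_and_card ψ).mpr ⟨hψ, by simp⟩).2 (1, 0, 0)
  simp only [ψ, Prod.mk.injEq] at hy
  obtain ⟨e0, e1, e2⟩ := hy
  set b := S.cA b₁ y with hbdef
  have hb : S.InB b := S.cA_mem_B hb₁ _
  have hb0 : b ≠ 0 := fun e => by rw [e, S.B_zero] at e0; exact absurd e0 (by decide)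
  refine ⟨a, b, ha, hb, fun x _ x' _ => ⟨S.A_orth (S.cA_mem ha _) (S.cA_mem ha _),
    S.B_orth (S.cA_mem_B hb _) (S.cA_mem_B hb _)⟩, ?_, S.span ha ha0 hb hb0⟩
  obtain ⟨-, h5, h6⟩ := S.powA ha
  have e01 : S.B a (S.W b) = 1 := by
    conv_lhs => rw [← S.h7 a]
    rw [S.inv, h6, S.addl, e2, e0, zero_add]
  have e02 : S.B a (S.W (S.W b)) = 1 := by
    conv_lhs => rw [← S.h7 a]
    rw [S.inv, S.inv, h5, S.addl, S.addl, e2, e1, e0, zero_add, zero_add]
  have e11 : S.B (S.W a) (S.W b) = 1 := by rw [S.inv, e0]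
  have e12 : S.B (S.W a) (S.W (S.W b)) = 1 := by rw [S.inv, e01]
  have e21 : S.B (S.W (S.W a)) (S.W b) = 0 := by rw [S.inv, e1]
  have e22 : S.B (S.W (S.W a)) (S.W (S.W b)) = 1 := by rw [S.inv, e11]
  have z0 : ∀ z, S.B 0 z = 0 := fun z => by rw [S.symm, S.B_zero]
  have hbl : ∀ x < 8, ∀ y < 8, bl x y = ((((x.testBit 0 && y.testBit 0) ^^ (x.testBit 0 && y.testBit 1)) ^^
      (x.testBit 0 && y.testBit 2)) ^^ (x.testBit 1 && y.testBit 1) ^^ (x.testBit 1 && y.testBit 2) ^^
      (x.testBit 2 && y.testBit 2)).toNat := by decide +kernel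
  intro x hx y hy
  rw [hbl x hx y hy]
  simp only [cA, comb, sel]
  cases x.testBit 0 <;> cases x.testBit 1 <;> cases x.testBit 2 <;> cases y.testBit 0 <;> cases y.testBit 1 <;>
    cases y.testBit 2 <;>
    simp [S.addl, S.addr, S.B_zero, z0, e0, e1, e2, e01, e02, e11, e12, e21, e22, CharTwo.add_self_eq_zero]

end Seven

end CfsgLib.HeShape
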