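/-
An extraspecial normal subgroup of order 128 with quotient SL(3, 2): coordinates adapted to an
element of order seven.
-/
import Cfsg.Prelude.Def_Transfer
import Cfsg.Agent.Lib.HeShape.Frame
import Cfsg.Agent.Lib.HeShape.Module
import Mathlib.GroupTheory.QuotientGroup.Basic
import Mathlib.GroupTheory.OrderOfElement
import Mathlib.GroupTheory.Commutator.Basic
import Mathlib.LinearAlgebra.Matrix.SpecialLinearGroup

set_option autoImplicit false
set_option maxRecDepth 10000

namespace CfsgLib.HeShape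

open scoped commutatorElement

local notation "SL3" => Matrix.SpecialLinearGroup (Fin 3) (ZMod 2)

/-- A group with a normal extraspecial subgroup of order 128 containing its centraliser, a central
involution and quotient SL(3, 2). -/
structure Hyp (C : Type*) [Group C] where
  /-- the subgroup -/
  Q : Subgroup C
  normal : Q.Normal
  /-- the central involution -/
  z : C
  z_sq : z * z = 1
  z_ne : z ≠ 1
  z_comm : ∀ c : C, c * z = z * c
  card : Nat.card Q = 128
  extra : Cfsg.IsExtraspecial 2 Q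
  cent : Subgroup.centralizer (Q : Set C) ≤ Q
  /-- the map to the quotient -/
  π : C →* SL3
  π_surj : Function.Surjective π
  π_ker : π.ker = Q

namespace Hyp

variable {C : Type*} [Group C] (h : Hyp C)

theorem z_mem : h.z ∈ h.Q := h.cent fun q _ => h.z_comm q

theorem z_inv : h.z⁻¹ = h.z := inv_eq_of_mul_eq_one_right h.z_sq

theorem conj_mem (c : C) {q : C} (hq : q ∈ h.Q) : c * q * c⁻¹ ∈ h.Q := h.normal.conj_mem q hq c

theorem π_eq_one {q : C} : h.π q = 1 ↔ q ∈ h.Q := by rw [← h.π_ker, MonoidHom.mem_ker]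

theorem center_eq (c : h.Q) : c ∈ Subgroup.center h.Q ↔ (c : C) = 1 ∨ (c : C) = h.z := by
  haveI : Finite h.Q := Nat.finite_of_card_ne_zero (by rw [h.card]; norm_num)
  have hz : (⟨h.z, h.z_mem⟩ : h.Q) ∈ Subgroup.center h.Q :=
    Subgroup.mem_center_iff.mpr fun q => Subtype.ext (h.z_comm q)
  refine ⟨fun hc => ?_, ?_⟩
  · by_contra hne
    rw [not_or] at hne
    have h3 : 3 ≤ Nat.card (Subgroup.center h.Q) := by
      let f : Fin 3 → Subgroup.center h.Q := ![⟨1, one_mem _⟩, ⟨⟨h.z, h.z_mem⟩, hz⟩, ⟨c, hc⟩]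
      have hf : Function.Injective f := by
        intro i j e
        have e' := congrArg (fun x : Subgroup.center h.Q => ((x : h.Q) : C)) e
        fin_cases i <;> fin_cases j <;>
          simp [f, h.z_ne, h.z_ne.symm, hne.1, hne.2, Ne.symm hne.1, Ne.symm hne.2] at e' ⊢
      simpa using Nat.card_le_card_of_injective f hf
    rw [h.extra.2] at h3
    omega
  · rintro (e | e)
    · rw [show c = 1 from Subtype.ext e]; exact one_mem _
    · rw [show c = ⟨h.z, h.z_mem⟩ from Subtype.ext e]; exact hz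

/-- The power of the central involution. -/
def pw (b : ZMod 2) : C := if b = 0 then 1 else h.z

theorem pw_zero : h.pw 0 = 1 := if_pos rfl

theorem pw_one : h.pw 1 = h.z := if_neg (by decide)

theorem pw_cases (b : ZMod 2) : b = 0 ∨ b = 1 := by revert b; decide

theorem pw_add (a b : ZMod 2) : h.pw (a + b) = h.pw a * h.pw b := by
  rcases pw_cases a with rfl | rfl <;> rcases pw_cases b with rfl | rfl <;>
    simp [pw_zero, pw_one, h.z_sq, show (1 : ZMod 2) + 1 = 0 from rfl]

theorem pw_mem (b : ZMod 2) : h.pw b ∈ h.Q := by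
  rcases pw_cases b with rfl | rfl <;> simp [pw_zero, pw_one, h.z_mem, one_mem]

theorem pw_comm (b : ZMod 2) (c : C) : c * h.pw b = h.pw b * c := by
  rcases pw_cases b with rfl | rfl <;> simp [pw_zero, pw_one, h.z_comm]

theorem pw_inj {a b : ZMod 2} (e : h.pw a = h.pw b) : a = b := by
  rcases pw_cases a with rfl | rfl <;> rcases pw_cases b with rfl | rfl <;>
    simp_all [pw_zero, pw_one, h.z_ne, h.z_ne.symm]

theorem mem_pw {q : h.Q} (hq : q ∈ Subgroup.center h.Q) : ∃ b, (q : C) = h.pw b := by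
  rcases (h.center_eq q).mp hq with e | e
  · exact ⟨0, e.trans h.pw_zero.symm⟩
  · exact ⟨1, e.trans h.pw_one.symm⟩

open Classical in
/-- The commutator bit. -/
noncomputable def bit (q r : C) : ZMod 2 := if q * r = r * q then 0 else 1

theorem comm_spec {q r : C} (hq : q ∈ h.Q) (hr : r ∈ h.Q) : q * r = r * q * h.pw (bit q r) := by
  have hc : (⁅(⟨q, hq⟩ : h.Q), ⟨r, hr⟩⁆ : h.Q) ∈ Subgroup.center h.Q := by
    rw [← h.extra.1.2.2]
    exact Subgroup.commutator_mem_commutator (Subgroup.mem_top _) (Subgroup.mem_top _)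
  by_cases hqr : q * r = r * q
  · rw [bit, if_pos hqr, h.pw_zero, mul_one]; exact hqr
  · rcases (h.center_eq _).mp hc with e | e <;> simp [commutatorElement_def] at e
    · exact absurd (by rwa [mul_inv_eq_one, mul_inv_eq_iff_eq_mul] at e) hqr
    · rw [bit, if_neg hqr, h.pw_one, h.z_comm, ← e]
      group

theorem bit_unique {q r : C} {b : ZMod 2} (hq : q ∈ h.Q) (hr : r ∈ h.Q) (e : q * r = r * q * h.pw b) :
    bit q r = b :=
  h.pw_inj (mul_left_cancel ((h.comm_spec hq hr).symm.trans e))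

open Classical in
theorem bit_symm (q r : C) : bit q r = bit r q := by
  exact if_congr eq_comm rfl rfl

theorem bit_mul_left {q q' r : C} (hq : q ∈ h.Q) (hq' : q' ∈ h.Q) (hr : r ∈ h.Q) :
    bit (q * q') r = bit q r + bit q' r := by
  refine h.bit_unique (mul_mem hq hq') hr ?_
  rw [mul_assoc q, h.comm_spec hq' hr, ← mul_assoc, ← mul_assoc, h.comm_spec hq hr, h.pw_add,
    mul_assoc (r * q) (h.pw _) q', ← h.pw_comm _ q']
  group

theorem bit_mul_right {q r r' : C} (hq : q ∈ h.Q) (hr : r ∈ h.Q) (hr' : r' ∈ h.Q) :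
    bit q (r * r') = bit q r + bit q r' := by
  rw [bit_symm q, h.bit_mul_left hr hr' hq, bit_symm r, bit_symm r']

open Classical in
theorem bit_conj (c q r : C) : bit (c * q * c⁻¹) (c * r * c⁻¹) = bit q r := by
  have e : (c * q * c⁻¹ * (c * r * c⁻¹) = c * r * c⁻¹ * (c * q * c⁻¹)) ↔ q * r = r * q := by
    rw [show c * q * c⁻¹ * (c * r * c⁻¹) = c * (q * r) * c⁻¹ by group,
      show c * r * c⁻¹ * (c * q * c⁻¹) = c * (r * q) * c⁻¹ by group, mul_left_inj, mul_right_inj]
  exact if_congr e rfl rfl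

theorem sq_mem {q : C} (hq : q ∈ h.Q) : q * q = 1 ∨ q * q = h.z := by
  refine (h.center_eq ⟨q * q, mul_mem hq hq⟩).mp (Subgroup.mem_center_iff.mpr fun r => Subtype.ext ?_)
  show (r : C) * (q * q) = q * q * r
  have h2 : bit (r : C) (q * q) = 0 := by rw [h.bit_mul_right r.2 hq hq, CharTwo.add_self_eq_zero]
  have := h.comm_spec r.2 (mul_mem hq hq)
  rwa [h2, h.pw_zero, mul_one] at this

/-- The group modulo its centre. -/
def V : Type _ := Additive (h.Q ⧸ Subgroup.center h.Q)

theorem quot_comm (x y : h.Q ⧸ Subgroup.center h.Q) : x * y = y * x := by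
  induction x using QuotientGroup.induction_on with | _ q =>
  induction y using QuotientGroup.induction_on with | _ r =>
  rw [← QuotientGroup.mk_mul, ← QuotientGroup.mk_mul]
  refine QuotientGroup.eq.mpr ?_
  have hc : ⁅r⁻¹, q⁻¹⁆ ∈ Subgroup.center h.Q := by
    rw [← h.extra.1.2.2]
    exact Subgroup.commutator_mem_commutator (Subgroup.mem_top _) (Subgroup.mem_top _)
  simpa [commutatorElement_def, mul_assoc] using hc

noncomputable instance instAddCommGroupV : AddCommGroup h.V :=
  { (inferInstance : AddGroup (Additive (h.Q ⧸ Subgroup.center h.Q))) with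
    add_comm := fun x y => h.quot_comm x.toMul y.toMul }

/-- The class of an element of the subgroup. -/
def cls (q : h.Q) : h.V := Additive.ofMul (QuotientGroup.mk q : h.Q ⧸ Subgroup.center h.Q)

theorem cls_mul (q r : h.Q) : h.cls (q * r) = h.cls q + h.cls r := rfl

theorem cls_one : h.cls 1 = 0 := rfl

theorem cls_surj (v : h.V) : ∃ q, h.cls q = v :=
  QuotientGroup.mk_surjective (s := Subgroup.center h.Q) v

theorem cls_eq {q r : h.Q} (e : h.cls q = h.cls r) : ∃ b, (r : C) = q * h.pw b := by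
  obtain ⟨b, hb⟩ := h.mem_pw (QuotientGroup.eq.mp e)
  exact ⟨b, by rw [← hb]; simp⟩

theorem cls_pw {q r : h.Q} {b : ZMod 2} (e : (r : C) = q * h.pw b) : h.cls q = h.cls r := by
  refine QuotientGroup.eq.mpr ((h.center_eq _).mpr ?_)
  rcases pw_cases b with rfl | rfl
  · left; simp [e, h.pw_zero]
  · right; simp [e, h.pw_one]

theorem card_V : Nat.card h.V = 64 := by
  have e := Subgroup.card_eq_card_quotient_mul_card_subgroup (Subgroup.center h.Q)
  rw [h.card, h.extra.2] at e
  show Nat.card (h.Q ⧸ Subgroup.center h.Q) = 64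
  omega

/-- A representative of a class. -/
noncomputable def rep (v : h.V) : C := ((h.cls_surj v).choose : C)

theorem rep_mem (v : h.V) : h.rep v ∈ h.Q := SetLike.coe_mem _

theorem bit_shift {q r s : C} {b : ZMod 2} (hq : q ∈ h.Q) (hr : r ∈ h.Q) (e : s = q * h.pw b) :
    bit s r = bit q r := by
  have hb : bit (h.pw b) r = 0 := by unfold bit; rw [if_pos (h.pw_comm b r).symm]
  rw [e, h.bit_mul_left hq (h.pw_mem b) hr, hb, add_zero]

/-- The form on the classes. -/
noncomputable def form (u v : h.V) : ZMod 2 := bit (h.rep u) (h.rep v)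

theorem form_cls (q r : h.Q) : h.form (h.cls q) (h.cls r) = bit (q : C) r := by
  obtain ⟨b, hb⟩ := h.cls_eq (h.cls_surj (h.cls q)).choose_spec.symm
  obtain ⟨b', hb'⟩ := h.cls_eq (h.cls_surj (h.cls r)).choose_spec.symm
  rw [form, rep, rep, h.bit_shift q.2 (SetLike.coe_mem _) hb, bit_symm, h.bit_shift r.2 q.2 hb', bit_symm]

/-- The action of an element on the classes. -/
noncomputable def actFun (c : C) (v : h.V) : h.V := h.cls ⟨c * h.rep v * c⁻¹, h.conj_mem c (h.rep_mem v)⟩

theorem actFun_cls (c : C) (q : h.Q) : h.actFun c (h.cls q) = h.cls ⟨c * q * c⁻¹, h.conj_mem c q.2⟩ := by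
  obtain ⟨b, hb⟩ := h.cls_eq (h.cls_surj (h.cls q)).choose_spec.symm
  refine (h.cls_pw (b := b) ?_).symm
  show c * h.rep (h.cls q) * c⁻¹ = c * q * c⁻¹ * h.pw b
  rw [rep, hb, mul_assoc _ c⁻¹, ← mul_assoc c, mul_assoc (c * q), ← h.pw_comm b c⁻¹]

/-- The action of an element on the classes, as an additive map. -/
noncomputable def actHom (c : C) : h.V →+ h.V :=
  AddMonoidHom.mk' (h.actFun c) fun u v => by
    obtain ⟨q, rfl⟩ := h.cls_surj u
    obtain ⟨r, rfl⟩ := h.cls_surj v
    rw [← h.cls_mul, h.actFun_cls, h.actFun_cls, h.actFun_cls, ← h.cls_mul]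
    congr 1
    exact Subtype.ext (by simp only [Subgroup.coe_mul]; group)

/-- An element of order seven gives an isometry of order seven of the classes. -/
noncomputable def seven (w : C) (hw : w ^ 7 = 1) (hwQ : w ∉ h.Q) : Seven h.V where
  h2 v := by
    obtain ⟨q, rfl⟩ := h.cls_surj v
    rw [← h.cls_mul, ← h.cls_one]
    rcases h.sq_mem q.2 with e | e
    · exact (h.cls_pw (b := 0) (by simp [pw_zero, e])).symm
    · exact (h.cls_pw (b := 1) (by simp [pw_one, e])).symm
  card := h.card_V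
  W := h.actHom w
  h7 v := by
    obtain ⟨q, rfl⟩ := h.cls_surj v
    simp only [actHom, AddMonoidHom.mk'_apply, h.actFun_cls]
    congr 1
    refine Subtype.ext ?_
    show _ = (q : C)
    calc _ = w ^ 7 * (q : C) * (w ^ 7)⁻¹ := by simp [pow_succ, mul_assoc, mul_inv_rev]
      _ = _ := by rw [hw]; group
  moves := by
    by_contra hne
    push Not at hne
    have h2 : ∀ q ∈ h.Q, w ^ 2 * q * (w ^ 2)⁻¹ = q := by
      intro q hq
      have e := hne (h.cls ⟨q, hq⟩)
      simp only [actHom, AddMonoidHom.mk'_apply, h.actFun_cls] at e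
      obtain ⟨b, hb⟩ := h.cls_eq e
      have hb' : w * q * w⁻¹ = q * h.pw b := by
        have hb2 : q = w * q * w⁻¹ * h.pw b := hb
        conv_rhs => rw [hb2, mul_assoc, ← h.pw_add, CharTwo.add_self_eq_zero, h.pw_zero, mul_one]
      calc w ^ 2 * q * (w ^ 2)⁻¹ = w * (w * q * w⁻¹) * w⁻¹ := by simp [pow_two, mul_assoc, mul_inv_rev]
        _ = (w * q * w⁻¹) * h.pw b := by
          conv_lhs => rw [hb']
          rw [← mul_assoc, mul_assoc _ _ w⁻¹, ← h.pw_comm b w⁻¹, ← mul_assoc]
        _ = q := by rw [hb', mul_assoc, ← h.pw_add, CharTwo.add_self_eq_zero, h.pw_zero, mul_one]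
    have hm : w ^ 2 ∈ h.Q := h.cent fun q hq => (mul_inv_eq_iff_eq_mul.mp (h2 q hq)).symm
    exact hwQ (by
      have := pow_mem hm 4
      rwa [← pow_mul, show 2 * 4 = 7 + 1 from rfl, pow_succ, hw, one_mul] at this)
  B := h.form
  addl u v x := by
    obtain ⟨q, rfl⟩ := h.cls_surj u
    obtain ⟨r, rfl⟩ := h.cls_surj v
    obtain ⟨s, rfl⟩ := h.cls_surj x
    rw [← h.cls_mul, h.form_cls, h.form_cls, h.form_cls]
    exact h.bit_mul_left q.2 r.2 s.2
  addr u v x := by
    obtain ⟨q, rfl⟩ := h.cls_surj u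
    obtain ⟨r, rfl⟩ := h.cls_surj v
    obtain ⟨s, rfl⟩ := h.cls_surj x
    rw [← h.cls_mul, h.form_cls, h.form_cls, h.form_cls]
    exact h.bit_mul_right q.2 r.2 s.2
  symm _ _ := bit_symm _ _
  nondeg u hu := by
    obtain ⟨q, rfl⟩ := h.cls_surj u
    rw [← h.cls_one]
    have hc : q ∈ Subgroup.center h.Q := Subgroup.mem_center_iff.mpr fun r => Subtype.ext (by
      have := hu (h.cls r)
      rw [h.form_cls] at this
      have e := h.comm_spec q.2 r.2
      rw [this, h.pw_zero, mul_one] at e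
      exact e.symm)
    obtain ⟨b, hb⟩ := h.mem_pw hc
    exact (h.cls_pw (b := b) (by simp [hb])).symm
  inv u v := by
    obtain ⟨q, rfl⟩ := h.cls_surj u
    obtain ⟨r, rfl⟩ := h.cls_surj v
    simp only [actHom, AddMonoidHom.mk'_apply, h.actFun_cls, h.form_cls]
    exact bit_conj w q r

end Hyp

end CfsgLib.HeShape
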