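/-
The coordinates of the extraspecial subgroup: codes below 128.
-/
import Cfsg.Agent.Lib.HeShape.Setup

set_option autoImplicit false
set_option maxRecDepth 10000

namespace CfsgLib.HeShape

open CfsgLib.CosetEnum

theorem parts_ok : ∀ x < 128, ∀ y < 128, lo (qmul x y) = lo x ^^^ lo y ∧ mid (qmul x y) = mid x ^^^ mid y ∧
    (qmul x y).testBit 6 = ((x.testBit 6 ^^ y.testBit 6) ^^ (bl (lo y) (mid x)).testBit 0) := by decide +kernel

theorem parts_lt (x : ℕ) : lo x < 8 ∧ mid x < 8 :=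
  ⟨Nat.lt_succ_of_le Nat.and_le_right, Nat.lt_succ_of_le Nat.and_le_right⟩

theorem bl_bit : ∀ x < 8, ∀ y < 8, bl x y = ((bl x y).testBit 0).toNat := by decide +kernel

theorem code_parts : ∀ x < 8, ∀ y < 8, ∀ b : Bool, lo (x + 8 * y + 64 * b.toNat) = x ∧
    mid (x + 8 * y + 64 * b.toNat) = y ∧ (x + 8 * y + 64 * b.toNat).testBit 6 = b := by decide +kernel

variable {C : Type*} [Group C]

/-- A factor selected by a bit. -/
def psel (b : Bool) (v : C) : C := cond b v 1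

/-- The ordered product with the given exponent bits. -/
def pcomb (u v r : C) (x : ℕ) : C := psel (x.testBit 0) u * psel (x.testBit 1) v * psel (x.testBit 2) r

theorem psel_comm {u v : C} (h : u * v = v * u) (p q : Bool) : Commute (psel p u) (psel q v) := by
  cases p <;> cases q <;> simp [psel, Commute.one_left, Commute.one_right]
  exact h

theorem psel_xor {u : C} (h : u * u = 1) (p q : Bool) : psel (p ^^ q) u = psel p u * psel q u := by
  cases p <;> cases q <;> simp [psel, h]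

theorem pcomb_xor {u v r : C} (hu : u * u = 1) (hv : v * v = 1) (hr : r * r = 1) (huv : u * v = v * u)
    (hur : u * r = r * u) (hvr : v * r = r * v) (x y : ℕ) :
    pcomb u v r (x ^^^ y) = pcomb u v r x * pcomb u v r y := by
  simp only [pcomb, Nat.testBit_xor, psel_xor hu, psel_xor hv, psel_xor hr]
  symm
  rw [Commute.mul_mul_mul_comm (Commute.mul_right (psel_comm hur.symm _ _) (psel_comm hvr.symm _ _)),
    Commute.mul_mul_mul_comm (psel_comm huv.symm _ _)]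

theorem pcomb_comm {u v r : C} (huv : u * v = v * u) (hur : u * r = r * u) (hvr : v * r = r * v) :
    pcomb u v r 3 = v * u ∧ pcomb u v r 5 = r * u := by
  simp [pcomb, psel, Nat.testBit, Nat.shiftRight_eq_div_pow, huv, hur]

namespace Hyp

variable (h : Hyp C)

/-- An element of order seven with adapted coordinates on the subgroup. -/
structure Coords where
  /-- the element of order seven -/
  w : C
  /-- the elements by code -/
  ι : ℕ → C
  w7 : w ^ 7 = 1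
  hom : ∀ x < 128, ∀ y < 128, ι (qmul x y) = ι x * ι y
  inj : ∀ x < 128, ∀ y < 128, ι x = ι y → x = y
  mem : ∀ q, q ∈ h.Q ↔ ∃ x < 128, ι x = q
  ι64 : ι 64 = h.z
  wact : ∀ x < 128, w * ι x * w⁻¹ = ι (qact wImg x)

theorem pcomb_mem {u v r : C} (hu : u ∈ h.Q) (hv : v ∈ h.Q) (hr : r ∈ h.Q) (x : ℕ) : pcomb u v r x ∈ h.Q := by
  have hp : ∀ (p : Bool) (a : C), a ∈ h.Q → psel p a ∈ h.Q := fun p a ha => by cases p <;> [exact one_mem _; exact ha]
  exact mul_mem (mul_mem (hp _ _ hu) (hp _ _ hv)) (hp _ _ hr)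

/-- Iterated conjugates. -/
def cj (w e : C) (i : ℕ) : C := w ^ i * e * (w ^ i)⁻¹

theorem cj_mem (w : C) {e : C} (he : e ∈ h.Q) (i : ℕ) : cj w e i ∈ h.Q := h.conj_mem _ he

theorem cj_succ (w e : C) (i : ℕ) : w * cj w e i * w⁻¹ = cj w e (i + 1) := by
  simp [cj, pow_succ', mul_assoc, mul_inv_rev]

/-- A sign can be chosen so that the recursion holds exactly. -/
theorem fix_sign {w : C} {e : C} (he : e ∈ h.Q) {k : ℕ} {b : ZMod 2} (hb : cj w e 3 = cj w e k * e * h.pw b) :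
    ∃ e' ∈ h.Q, (∃ c, e' = e * h.pw c) ∧ cj w e' 3 = cj w e' k * e' := by
  refine ⟨e * h.pw b, mul_mem he (h.pw_mem b), ⟨b, rfl⟩, ?_⟩
  have hc : ∀ i, cj w (e * h.pw b) i = cj w e i * h.pw b := fun i => by
    unfold cj
    rw [← mul_assoc, mul_assoc _ (h.pw b), ← h.pw_comm b, ← mul_assoc]
  rw [hc, hc, hb]
  rw [mul_assoc (cj w e k) (h.pw b), ← mul_assoc (h.pw b) e, ← h.pw_comm b e]
  group

theorem exists_coords [Finite C] {w : C} (hw : w ^ 7 = 1) (hwQ : w ∉ h.Q) : ∃ D : h.Coords, D.w = w := by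
  set S := h.seven w hw hwQ with hS
  obtain ⟨av, bv, ha, hb, hiso, hpair, hspan⟩ := S.frame
  have hW : ∀ (e : h.Q), S.W (h.cls e) = h.cls ⟨w * e * w⁻¹, h.conj_mem w e.2⟩ := fun e => h.actFun_cls w e
  have hcl : ∀ (e : h.Q) (v : h.V), h.cls e = v →
      h.cls ⟨cj w e 1, h.cj_mem w e.2 1⟩ = S.W v ∧ h.cls ⟨cj w e 2, h.cj_mem w e.2 2⟩ = S.W (S.W v) ∧
        h.cls ⟨cj w e 3, h.cj_mem w e.2 3⟩ = S.W (S.W (S.W v)) := by
    intro e v hv
    have h1 : h.cls ⟨cj w e 1, h.cj_mem w e.2 1⟩ = S.W v := by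
      rw [← hv, hW]; exact congrArg h.cls (Subtype.ext (by simp [cj]))
    have h2 : h.cls ⟨cj w e 2, h.cj_mem w e.2 2⟩ = S.W (S.W v) := by
      rw [← h1, hW]; exact congrArg h.cls (Subtype.ext (cj_succ w e 1).symm)
    exact ⟨h1, h2, by rw [← h2, hW]; exact congrArg h.cls (Subtype.ext (cj_succ w e 2).symm)⟩
  obtain ⟨a', ha'⟩ := h.cls_surj av
  obtain ⟨b', hb'⟩ := h.cls_surj bv
  obtain ⟨ca, hca⟩ : ∃ c, cj w a' 3 = cj w a' 1 * a' * h.pw c := by
    obtain ⟨c1, c2, c3⟩ := hcl a' av ha'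
    obtain ⟨c, hc⟩ := h.cls_eq (q := ⟨cj w a' 1, h.cj_mem w a'.2 1⟩ * a') (r := ⟨cj w a' 3, h.cj_mem w a'.2 3⟩)
      (by rw [h.cls_mul, c1, c3, ha']; exact ha.symm)
    exact ⟨c, hc⟩
  obtain ⟨cb, hcb⟩ : ∃ c, cj w b' 3 = cj w b' 2 * b' * h.pw c := by
    obtain ⟨c1, c2, c3⟩ := hcl b' bv hb'
    obtain ⟨c, hc⟩ := h.cls_eq (q := ⟨cj w b' 2, h.cj_mem w b'.2 2⟩ * b') (r := ⟨cj w b' 3, h.cj_mem w b'.2 3⟩)
      (by rw [h.cls_mul, c2, c3, hb']; exact hb.symm)
    exact ⟨c, hc⟩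
  obtain ⟨e, he, ⟨c₁, hec⟩, he3⟩ := h.fix_sign a'.2 hca
  obtain ⟨f, hf, ⟨c₂, hfc⟩, hf3⟩ := h.fix_sign b'.2 hcb
  have hce : h.cls ⟨e, he⟩ = av := (h.cls_pw (q := a') hec).symm.trans ha'
  have hcf : h.cls ⟨f, hf⟩ = bv := (h.cls_pw (q := b') hfc).symm.trans hb'
  obtain ⟨ce1, ce2, -⟩ := hcl ⟨e, he⟩ av hce
  obtain ⟨cf1, cf2, -⟩ := hcl ⟨f, hf⟩ bv hcf
  set E := pcomb e (cj w e 1) (cj w e 2) with hE
  set F := pcomb f (cj w f 1) (cj w f 2) with hF
  have hEm : ∀ x, E x ∈ h.Q := h.pcomb_mem he (h.cj_mem w he 1) (h.cj_mem w he 2)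
  have hFm : ∀ x, F x ∈ h.Q := h.pcomb_mem hf (h.cj_mem w hf 1) (h.cj_mem w hf 2)
  have hcomb : ∀ (u v r : h.Q) (a b c : h.V), h.cls u = a → h.cls v = b → h.cls r = c → ∀ x,
      h.cls ⟨pcomb (u : C) v r x, h.pcomb_mem u.2 v.2 r.2 x⟩ = comb a b c x := by
    rintro u v r _ _ _ rfl rfl rfl x
    have hs : ∀ (p : Bool) (q : h.Q), h.cls (cond p q 1) = sel p (h.cls q) := fun p q => by cases p <;> rfl
    unfold comb
    rw [← hs, ← hs, ← hs, ← h.cls_mul, ← h.cls_mul]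
    refine congrArg h.cls (Subtype.ext ?_)
    cases hb0 : x.testBit 0 <;> cases hb1 : x.testBit 1 <;> cases hb2 : x.testBit 2 <;> simp [pcomb, psel, hb0, hb1, hb2]
  have hcE : ∀ x, h.cls ⟨E x, hEm x⟩ = S.cA av x := hcomb ⟨e, he⟩ ⟨cj w e 1, _⟩ ⟨cj w e 2, _⟩ _ _ _ hce ce1 ce2
  have hcF : ∀ x, h.cls ⟨F x, hFm x⟩ = S.cA bv x := hcomb ⟨f, hf⟩ ⟨cj w f 1, _⟩ ⟨cj w f 2, _⟩ _ _ _ hcf cf1 cf2
  have hbEE : ∀ x < 8, ∀ y < 8, E x * E y = E y * E x ∧ F x * F y = F y * F x := by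
    intro x hx y hy
    refine ⟨?_, ?_⟩
    · have := h.form_cls ⟨E x, hEm x⟩ ⟨E y, hEm y⟩
      rw [hcE, hcE, show h.form (S.cA av x) (S.cA av y) = 0 from (hiso x hx y hy).1] at this
      rw [h.comm_spec (hEm x) (hEm y), ← this, h.pw_zero, mul_one]
    · have := h.form_cls ⟨F x, hFm x⟩ ⟨F y, hFm y⟩
      rw [hcF, hcF, show h.form (S.cA bv x) (S.cA bv y) = 0 from (hiso x hx y hy).2] at this
      rw [h.comm_spec (hFm x) (hFm y), ← this, h.pw_zero, mul_one]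
  have hbFE : ∀ x < 8, ∀ y < 8, F y * E x = E x * F y * h.pw (bl x y : ZMod 2) := by
    intro x hx y hy
    have := h.form_cls ⟨E x, hEm x⟩ ⟨F y, hFm y⟩
    rw [hcE, hcF, show h.form (S.cA av x) (S.cA bv y) = _ from hpair x hx y hy] at this
    rw [h.comm_spec (hFm y) (hEm x), bit_symm, ← this]
  have e1 : E 1 = e ∧ E 2 = cj w e 1 ∧ E 4 = cj w e 2 ∧ F 1 = f ∧ F 2 = cj w f 1 ∧ F 4 = cj w f 2 := by
    simp [hE, hF, pcomb, psel, Nat.testBit, Nat.shiftRight_eq_div_pow]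
  obtain ⟨eE1, eE2, eE4, eF1, eF2, eF4⟩ := e1
  have k12 := hbEE 1 (by norm_num) 2 (by norm_num)
  have k14 := hbEE 1 (by norm_num) 4 (by norm_num)
  have k24 := hbEE 2 (by norm_num) 4 (by norm_num)
  rw [eE1, eE2, eF1, eF2] at k12
  rw [eE1, eE4, eF1, eF4] at k14
  rw [eE2, eE4, eF2, eF4] at k24
  have hsq1 : ∀ (q : C), q ∈ h.Q → ∀ k, q * cj w q k = cj w q k * q → cj w q 3 = cj w q k * q → q * q = 1 := by
    intro q hq k hcomm h3
    have hsame : ∀ i, cj w q i * cj w q i = q * q := by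
      intro i
      rw [show cj w q i * cj w q i = w ^ i * (q * q) * (w ^ i)⁻¹ by simp [cj, mul_assoc]]
      rcases h.sq_mem hq with s | s <;> rw [s]
      · simp
      · rw [h.z_comm]; simp
    have e := hsame 3
    rw [h3, Commute.mul_mul_mul_comm (show Commute q (cj w q k) from hcomm), hsame] at e
    exact mul_eq_left.mp e
  have se := hsq1 e he 1 k12.1 he3
  have sf := hsq1 f hf 2 k14.2 hf3
  have sconj : ∀ q, q * q = 1 → ∀ i, cj w q i * cj w q i = 1 := fun q s i => by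
    rw [show cj w q i * cj w q i = w ^ i * (q * q) * (w ^ i)⁻¹ by simp [cj, mul_assoc], s]; simp
  have Exor := pcomb_xor se (sconj e se 1) (sconj e se 2) k12.1 k14.1 k24.1
  have Fxor := pcomb_xor sf (sconj f sf 1) (sconj f sf 2) k12.2 k14.2 k24.2
  set ι : ℕ → C := fun x => E (lo x) * F (mid x) * h.pw ((x.testBit 6).toNat : ZMod 2) with hι
  have hom : ∀ x < 128, ∀ y < 128, ι (qmul x y) = ι x * ι y := by
    intro x hx y hy
    obtain ⟨p1, p2, p3⟩ := parts_ok x hx y hy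
    simp only [hι, p1, p2, p3]
    rw [show E (lo x ^^^ lo y) = E (lo x) * E (lo y) from Exor _ _,
      show F (mid x ^^^ mid y) = F (mid x) * F (mid y) from Fxor _ _]
    have hc := hbFE (lo y) (parts_lt y).1 (mid x) (parts_lt x).2
    have hb : ∀ p q r : Bool, (((((p ^^ q) ^^ r).toNat : ℕ) : ZMod 2)) =
        (r.toNat : ZMod 2) + ((p.toNat : ZMod 2) + (q.toNat : ZMod 2)) := by decide
    rw [bl_bit _ (parts_lt y).1 _ (parts_lt x).2] at hc
    rw [hb, h.pw_add, h.pw_add]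
    generalize E (lo x) = a, E (lo y) = b, F (mid x) = c, F (mid y) = d at hc ⊢
    generalize hp : h.pw ((x.testBit 6).toNat : ZMod 2) = p at hc ⊢
    generalize hq' : h.pw ((y.testBit 6).toNat : ZMod 2) = q at hc ⊢
    generalize hr' : h.pw (((bl (lo y) (mid x)).testBit 0).toNat : ZMod 2) = r at hc ⊢
    have hp' : ∀ g, g * p = p * g := fun g => hp ▸ h.pw_comm _ g
    have hr'' : ∀ g, g * r = r * g := fun g => hr' ▸ h.pw_comm _ g
    calc a * b * (c * d) * (r * (p * q)) = a * (b * c * (d * r)) * (p * q) := by simp only [mul_assoc]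
      _ = a * (b * c * r) * d * (p * q) := by rw [hr'' d]; simp only [mul_assoc]
      _ = a * (c * b) * d * (p * q) := by rw [hc]
      _ = a * c * (b * d * p) * q := by simp only [mul_assoc]
      _ = a * c * (p * (b * d)) * q := by rw [hp' (b * d)]
      _ = _ := by simp only [mul_assoc]
  have hmem : ∀ x, ι x ∈ h.Q := fun x => mul_mem (mul_mem (hEm _) (hFm _)) (h.pw_mem _)
  have hsur : ∀ q ∈ h.Q, ∃ x < 128, ι x = q := by
    intro q hq
    obtain ⟨x, hx, y, hy, e⟩ := hspan (h.cls ⟨q, hq⟩)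
    obtain ⟨b, hb⟩ := h.cls_eq (q := ⟨E x, hEm x⟩ * ⟨F y, hFm y⟩) (r := ⟨q, hq⟩)
      (by rw [h.cls_mul, hcE, hcF]; exact e.symm)
    obtain ⟨b', rfl⟩ : ∃ b' : Bool, (b'.toNat : ZMod 2) = b := by
      rcases pw_cases b with rfl | rfl <;> [exact ⟨false, rfl⟩; exact ⟨true, rfl⟩]
    obtain ⟨p1, p2, p3⟩ := code_parts x hx y hy b'
    refine ⟨x + 8 * y + 64 * b'.toNat, by have := b'.toNat_le; omega, ?_⟩
    simp only [hι, p1, p2, p3]
    exact hb.symm
  have hbij : Function.Bijective fun x : Fin 128 => (⟨ι x, hmem x⟩ : h.Q) :=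
    (Nat.bijective_iff_surjective_and_card _).mpr ⟨fun q => by
      obtain ⟨x, hx, e⟩ := hsur q q.2
      exact ⟨⟨x, hx⟩, Subtype.ext e⟩, by rw [h.card, Nat.card_fin]⟩
  have hv : ∀ x y b, lo x = y → mid x = b → x.testBit 6 = false → ι x = E y * F b := by
    rintro x _ _ rfl rfl e
    simp [hι, e, h.pw_zero]
  have E0 : E 0 = 1 ∧ F 0 = 1 := by simp [hE, hF, pcomb, psel]
  have i64 : ι 64 = h.z := by
    simp [hι, show lo 64 = 0 by decide +kernel, show mid 64 = 0 by decide +kernel,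
      show Nat.testBit 64 6 = true by decide, E0.1, E0.2, h.pw_one]
  refine ⟨⟨w, ι, hw, hom, fun x hx y hy e => congrArg Fin.val (hbij.1 (a₁ := ⟨x, hx⟩) (a₂ := ⟨y, hy⟩) (Subtype.ext e)),
    fun q => ⟨hsur q, fun ⟨x, _, e⟩ => e ▸ hmem x⟩, i64, ?_⟩, rfl⟩
  refine conj_qact hom (by decide) w (fun i hi => ?_) ?_
  swap
  · rw [i64, h.z_comm]; simp
  have v1 : ι 1 = e := by rw [hv 1 1 0 (by decide +kernel) (by decide +kernel) (by decide), eE1, E0.2, mul_one]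
  have v2 : ι 2 = cj w e 1 := by rw [hv 2 2 0 (by decide +kernel) (by decide +kernel) (by decide), eE2, E0.2, mul_one]
  have v4 : ι 4 = cj w e 2 := by rw [hv 4 4 0 (by decide +kernel) (by decide +kernel) (by decide), eE4, E0.2, mul_one]
  have v8 : ι 8 = f := by rw [hv 8 0 1 (by decide +kernel) (by decide +kernel) (by decide), eF1, E0.1, one_mul]
  have v16 : ι 16 = cj w f 1 := by rw [hv 16 0 2 (by decide +kernel) (by decide +kernel) (by decide), eF2, E0.1, one_mul]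
  have v32 : ι 32 = cj w f 2 := by rw [hv 32 0 4 (by decide +kernel) (by decide +kernel) (by decide), eF4, E0.1, one_mul]
  have v3 : ι 3 = cj w e 3 := by
    rw [hv 3 3 0 (by decide +kernel) (by decide +kernel) (by decide), E0.2, mul_one, he3]
    exact (pcomb_comm k12.1 k14.1 k24.1).1
  have v40 : ι 40 = cj w f 3 := by
    rw [hv 40 0 5 (by decide +kernel) (by decide +kernel) (by decide), E0.1, one_mul, hf3]
    exact (pcomb_comm k12.2 k14.2 k24.2).2
  have c1 : ∀ q, w * q * w⁻¹ = cj w q 1 := fun q => by simp [cj]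
  interval_cases i
  · show w * ι 1 * w⁻¹ = ι 2; rw [v1, v2, c1]
  · show w * ι 2 * w⁻¹ = ι 4; rw [v2, v4, cj_succ]
  · show w * ι 4 * w⁻¹ = ι 3; rw [v4, v3, cj_succ]
  · show w * ι 8 * w⁻¹ = ι 16; rw [v8, v16, c1]
  · show w * ι 16 * w⁻¹ = ι 32; rw [v16, v32, cj_succ]
  · show w * ι 32 * w⁻¹ = ι 40; rw [v32, v40, cj_succ]

end Hyp

end CfsgLib.HeShape
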