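/-
The coset table of the quotient of order 168 on two generators.
-/
import Cfsg.Agent.Lib.HeShape.Code

set_option autoImplicit false

namespace CfsgLib.HeShape

/-- The next cosets, eight bits each. -/
def nxN : ℕ := 68328352205595556097871312138748506595827337650182143486505333254155528616715556440460703268214411489313693472430616168583434794389615966360765612985708282675666319058795124328852802425105803346140645555661252024457741370240991447848528092051372818291253861108389064833143268395528095372818539644792787294231766779804789849987830079437068392959282914858696499846504054013076645558793045557123701598624279499170206634905986173837828916725098956228900165752060604369770839187181156789773410764261600425612825521329118213123010781047650004095496814660638415337493181862152994367906529649907488936360184605216637963460986201884352864811966090752599848264525595421277593438130678869129225494963507458111019977874515958666344747381205792726052537022202692753001941768815265343716780317137143813255762772507689484801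

/-- The words of the cosets, sixteen bits each. -/
def wdN : ℕ := 68530597577528779922781023406998744390981986310219536013298616823856568863406172777784094503949979322845192871713737660548087187717349899198416839737007479489343769276517155954542075141301872429556706160331341178709310559873253420968677739106770606389257934179790635985794184592618963912754916905716005756454805013142505310250682985719169573634777167385332367641310075016150268735928236760367264451465493756421868954972861715913422799423262147052083483030914903133118563742193272098444634885870561757433867307878522089528305215837573750112860692702381533634294379330558968642182210493464995375514372701634738498589483028908289639063099218100455891719711399909463306118998020574975793196017900425270890891101725609083260224138336544562147817583173890095613342080058495141188957265589847179741779239537618255872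

/-- The tree edges. -/
def treeN : ℕ := 68687558232354700954204409886052714722762256959561560540659253488329865535343370567956557563

theorem treeN_lt : treeN < 2 ^ 336 := by decide +kernel

end CfsgLib.HeShape
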