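/-
Derivation of the multiplication table of the extension from the relations of the generators.
-/
import Cfsg.Agent.Lib.HeShape.Frame
import Cfsg.Agent.Lib.HeShape.KData

set_option autoImplicit false
set_option maxRecDepth 10000
set_option exponentiation.threshold 400

namespace CfsgLib.HeShape

open CfsgLib.CosetEnum

/-- The next coset index. -/
noncomputable def nx (k s : ℕ) : ℕ := fld nxN (Nat.mul (nat_lit 8) (Nat.add (Nat.mul (nat_lit 2) k) s)) (nat_lit 8)

/-- The packed word of a coset. -/
noncomputable def wdRaw (k : ℕ) : ℕ := fld wdN (Nat.mul (nat_lit 16) k) (nat_lit 16)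

/-- The bits of a number below a bound, most significant last. -/
noncomputable def bitsOf (n len : ℕ) : List ℕ :=
  Nat.rec [] (fun i ih => (Bool.rec (nat_lit 0) (nat_lit 1) (Nat.testBit n i)) :: ih) len

/-- The word of a coset. -/
noncomputable def wd (k : ℕ) : List ℕ :=
  bitsOf (Nat.shiftRight (wdRaw k) (nat_lit 4)) (Nat.land (wdRaw k) (nat_lit 15))

theorem bitsOf_lt (n : ℕ) : ∀ len : ℕ, ∀ s ∈ bitsOf n len, s < 2
  | 0, s, h => by simp [bitsOf] at h
  | len + 1, s, h => by
    simp only [bitsOf] at h
    rcases List.mem_cons.mp h with e | h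
    · subst e
      cases Nat.testBit n len <;> simp
    · exact bitsOf_lt n len s h

theorem wd_lt (k : ℕ) : ∀ s ∈ wd k, s < 2 := bitsOf_lt _ _

theorem wd_zero : wd 0 = [] := by decide +kernel

/-- The edges along a word. -/
noncomputable def edges (w : List ℕ) : ℕ → List ℕ :=
  List.rec (motive := fun _ => ℕ → List ℕ) (fun _ => [])
    (fun s _ ih k => Nat.add (Nat.mul (nat_lit 2) k) s :: force (nx k s) ih) w

/-- The coset reached by a word. -/
noncomputable def runK (w : List ℕ) : ℕ → ℕ :=
  List.rec (motive := fun _ => ℕ → ℕ) (fun k => k) (fun s _ ih k => force (nx k s) ih) w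

theorem edges_cons (s : ℕ) (w : List ℕ) (k : ℕ) : edges (s :: w) k = (2 * k + s) :: edges w (nx k s) :=
  congrArg (List.cons (2 * k + s)) (force_eq (nx k s) (edges w))

theorem runK_cons (s : ℕ) (w : List ℕ) (k : ℕ) : runK (s :: w) k = runK w (nx k s) := force_eq (nx k s) (runK w)

theorem runK_append : ∀ (v w : List ℕ) (k : ℕ), runK (v ++ w) k = runK w (runK v k)
  | [], _, _ => rfl
  | s :: v, w, k => by rw [List.cons_append, runK_cons, runK_cons, runK_append v w]

theorem nx_lt_ok : ∀ k < 168, ∀ s < 2, nx k s < 168 := by decide +kernel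

theorem runK_lt : ∀ (w : List ℕ), (∀ s ∈ w, s < 2) → ∀ k < 168, runK w k < 168
  | [], _, k, hk => hk
  | s :: w, h, k, hk => by
    rw [runK_cons]
    exact runK_lt w (fun r hr => h r (List.mem_cons_of_mem _ hr)) _ (nx_lt_ok k hk s (h s List.mem_cons_self))

theorem runK_wd : ∀ k < 168, runK (wd k) 0 = k := by decide +kernel

theorem relW_lt : ∀ j < 4, ∀ s ∈ relW.getD j [], s < 2 := by decide

theorem runK_rel : ∀ j < 4, ∀ k < 168, runK (relW.getD j []) k = k := by decide +kernel

/-- The edge is a tree edge. -/
noncomputable def treeEdge (e : ℕ) : Bool :=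
  wd (nx (Nat.div e (nat_lit 2)) (Nat.mod e (nat_lit 2))) == wd (Nat.div e (nat_lit 2)) ++ [Nat.mod e (nat_lit 2)]

theorem treeN_ok : ∀ e < 336, treeN.testBit e = true → treeEdge e = true := by decide +kernel

/-- The value of an edge in a table. -/
noncomputable def cv (T e : ℕ) : ℕ := fld T (Nat.mul (nat_lit 7) e) (nat_lit 7)

theorem cv_lt (T e : ℕ) : cv T e < 128 := Nat.mod_lt _ (by norm_num)

/-- All edges but the one at the given position are known. -/
noncomputable def knownBut (M : ℕ) (es : List ℕ) (p : ℕ) : Bool := (es.eraseIdx p).all fun e => Nat.testBit M e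

/-- The check of one step: relation, starting coset and position packed in one number. -/
noncomputable def stepOK (m : ℕ) (val : List ℕ) (T M q : ℕ) : Bool :=
  force (Nat.div q (nat_lit 128)) fun k => force (Nat.mod (Nat.div q (nat_lit 32)) (nat_lit 4)) fun j =>
    force (Nat.mod q (nat_lit 32)) fun p =>
      Nat.blt k (nat_lit 168) && (Nat.blt p (edges (relW.getD j []) k).length &&
        (knownBut M (edges (relW.getD j []) k) p &&
          Nat.beq (qprod ((edges (relW.getD j []) k).map (cv T))) (wAct m (wd k) (val.getD j (nat_lit 0)))))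

/-- The edge found by a step. -/
noncomputable def stepEdge (q : ℕ) : ℕ :=
  (edges (relW.getD (Nat.mod (Nat.div q (nat_lit 32)) (nat_lit 4)) []) (Nat.div q (nat_lit 128))).getD
    (Nat.mod q (nat_lit 32)) (nat_lit 0)

/-- The known edges at the end of a list of steps. -/
noncomputable def maskAfter (qs : List ℕ) : ℕ → ℕ :=
  List.rec (motive := fun _ => ℕ → ℕ) (fun M => M)
    (fun q _ ih M => force (Nat.lor M (Nat.shiftLeft (nat_lit 1) (stepEdge q))) ih) qs

/-- The steps in turn. -/
noncomputable def partOK (m : ℕ) (val : List ℕ) (T : ℕ) (qs : List ℕ) : ℕ → Bool :=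
  List.rec (motive := fun _ => ℕ → Bool) (fun _ => true)
    (fun q _ ih M => stepOK m val T M q && force (Nat.lor M (Nat.shiftLeft (nat_lit 1) (stepEdge q))) ih) qs

/-- The table has the tree edges trivial. -/
noncomputable def treeCv (T : ℕ) : Bool :=
  allN 336 fun e => !Nat.testBit treeN e || Nat.beq (cv T e) (nat_lit 0)

/-- The steps in turn, ending with all edges known. -/
noncomputable def stepsOK (m : ℕ) (val : List ℕ) (T : ℕ) (qs : List ℕ) (M : ℕ) : Bool :=
  partOK m val T qs M && Nat.beq (maskAfter qs M) (Nat.pred (Nat.shiftLeft (nat_lit 1) (nat_lit 336)))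

variable {H : Type*} [Group H] {m : ℕ} {val : List ℕ}

namespace Rels

variable (R : Rels H m val)

/-- The element of a coset. -/
noncomputable def T (k : ℕ) : H := R.el (wd k)

/-- The true value of an edge. -/
noncomputable def d (e : ℕ) : H := R.T (e / 2) * R.g (e % 2) * (R.T (nx (e / 2) (e % 2)))⁻¹

theorem d_pair (k : ℕ) {s : ℕ} (hs : s < 2) : R.d (2 * k + s) = R.T k * R.g s * (R.T (nx k s))⁻¹ := by
  rw [d, show (2 * k + s) / 2 = k by omega, show (2 * k + s) % 2 = s by omega]

theorem path : ∀ (w : List ℕ), (∀ s ∈ w, s < 2) → ∀ k, ((edges w k).map R.d).prod = R.T k * R.el w * (R.T (runK w k))⁻¹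
  | [], _, k => by simp [edges, runK, el]
  | s :: w, h, k => by
    rw [edges_cons, List.map_cons, List.prod_cons, path w (fun r hr => h r (List.mem_cons_of_mem _ hr)),
      R.d_pair k (h s List.mem_cons_self), runK_cons, show R.el (s :: w) = R.g s * R.el w by simp [el]]
    group

theorem path_rel {k j : ℕ} (hk : k < 168) (hj : j < 4) :
    ((edges (relW.getD j []) k).map R.d).prod = R.ι (wAct m (wd k) (val.getD j 0)) := by
  rw [R.path _ (relW_lt j hj), runK_rel j hj k hk, show R.el (relW.getD j []) = R.ι (val.getD j 0) from R.rel j hj]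
  exact R.conj_el (R.val_lt j hj) _ (wd_lt k)

theorem path_val {k j : ℕ} (hk : k < 168) (hj : j < 4) (T : ℕ)
    (hall : ∀ e ∈ edges (relW.getD j []) k, R.d e = R.ι (cv T e)) :
    qprod ((edges (relW.getD j []) k).map (cv T)) = wAct m (wd k) (val.getD j 0) := by
  refine R.inj _ (qprod_lt _) _ (wAct_lt m (R.val_lt j hj) _) ?_
  rw [R.ι_qprod _ (fun c hc => by obtain ⟨e, -, rfl⟩ := List.mem_map.mp hc; exact cv_lt T e), ← R.path_rel hk hj,
    List.map_map]
  exact congrArg List.prod (List.map_congr_left fun e he => (hall e he).symm)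

theorem step_sound (T : ℕ) {M q : ℕ} (hM : ∀ e, M.testBit e = true → R.d e = R.ι (cv T e))
    (h : stepOK m val T M q = true) : R.d (stepEdge q) = R.ι (cv T (stepEdge q)) := by
  simp only [stepOK, force_eq, Bool.and_eq_true] at h
  obtain ⟨hk, hp, hkn, heq⟩ := h
  set k := Nat.div q 128 with hkdef
  set j := Nat.mod (Nat.div q 32) 4 with hjdef
  set p := Nat.mod q 32 with hpdef
  set es := edges (relW.getD j []) k with hes
  have hk' : k < 168 := blt_iff.mp hk
  have hp' : p < es.length := blt_iff.mp hp
  have hj' : j < 4 := Nat.mod_lt _ (by norm_num)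
  have hse : stepEdge q = es[p] := by
    rw [stepEdge, List.getD_eq_getElem]
  rw [hse]
  simp only [knownBut, List.all_eq_true, List.eraseIdx_eq_take_drop_succ, List.mem_append] at hkn
  have h1 := R.path_rel hk' hj'
  have h2 : ((es.map (cv T)).map R.ι).prod = R.ι (wAct m (wd k) (val.getD j 0)) := by
    rw [← R.ι_qprod _ (fun c hc => by obtain ⟨e, -, rfl⟩ := List.mem_map.mp hc; exact cv_lt T e),
      Nat.eq_of_beq_eq_true heq]
  rw [List.map_map] at h2
  have hsplit : es = es.take p ++ es[p] :: es.drop (p + 1) := by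
    rw [← List.drop_eq_getElem_cons hp', List.take_append_drop]
  have key : ∀ l : List ℕ, (∀ e ∈ l, M.testBit e = true) → (l.map R.d).prod = (l.map (R.ι ∘ cv T)).prod :=
    fun l hl => congrArg List.prod (List.map_congr_left fun e he => hM e (hl e he))
  have h3 := h1.trans h2.symm
  rw [← hes, hsplit] at h3
  simp only [List.map_append, List.map_cons, List.prod_append, List.prod_cons,
    key _ fun e he => hkn e (Or.inl he), key _ fun e he => hkn e (Or.inr he)] at h3
  exact mul_right_cancel (mul_left_cancel h3)

theorem part_sound (T : ℕ) : ∀ (qs : List ℕ) (M : ℕ), (∀ e, M.testBit e = true → R.d e = R.ι (cv T e)) →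
    partOK m val T qs M = true → ∀ e, (maskAfter qs M).testBit e = true → R.d e = R.ι (cv T e)
  | [], M, hM, _ => hM
  | q :: qs, M, hM, h => by
    have h' : (stepOK m val T M q && force (Nat.lor M (Nat.shiftLeft 1 (stepEdge q))) (partOK m val T qs)) = true := h
    rw [force_eq, Bool.and_eq_true] at h'
    show ∀ e, (force _ (maskAfter qs)).testBit e = true → _
    rw [force_eq]
    refine part_sound T qs _ (fun e he => ?_) h'.2
    rw [show Nat.lor M (Nat.shiftLeft 1 (stepEdge q)) = M ||| (1 <<< stepEdge q) from rfl, Nat.testBit_or,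
      Bool.or_eq_true, Nat.one_shiftLeft, Nat.testBit_two_pow, decide_eq_true_eq] at he
    rcases he with he | he
    · exact hM e he
    · exact he ▸ R.step_sound T hM h'.1

theorem tree_sound (T : ℕ) (hT : treeCv T = true) (e : ℕ) (he : treeN.testBit e = true) : R.d e = R.ι (cv T e) := by
  have he' : e < 336 := by
    by_contra hge
    have : treeN.testBit e = false :=
      Nat.testBit_lt_two_pow (lt_of_lt_of_le treeN_lt (Nat.pow_le_pow_right two_pos (not_lt.mp hge)))
    simp [this] at he
  have h0 : cv T e = 0 := by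
    have := allN_spec hT e he'
    rw [he] at this
    exact Nat.eq_of_beq_eq_true (by simpa using this)
  have ht := treeN_ok e he' he
  simp only [treeEdge, beq_iff_eq] at ht
  rw [h0, ι_zero R.hom, d, Rels.T, Rels.T, show wd (nx (e / 2) (e % 2)) = wd (e / 2) ++ [e % 2] from ht,
    R.el_append, show R.el [e % 2] = R.g (e % 2) by simp [el]]
  group

/-- A complete list of steps determines all the edges. -/
theorem edges_known (T : ℕ) (qs : List ℕ) (hT : treeCv T = true) (h : stepsOK m val T qs treeN = true) :
    ∀ e < 336, R.d e = R.ι (cv T e) := by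
  intro e he
  rw [stepsOK, Bool.and_eq_true] at h
  refine R.part_sound T qs treeN (R.tree_sound T hT) h.1 e ?_
  rw [Nat.eq_of_beq_eq_true h.2]
  show Nat.testBit ((1 <<< 336) - 1) e = true
  rw [Nat.one_shiftLeft, Nat.testBit_two_pow_sub_one]
  simpa using he

include R in
/-- A list of steps ending in a relation violated by the table is contradictory. -/
theorem clash (T : ℕ) (qs : List ℕ) (k j : ℕ) (hk : k < 168) (hj : j < 4) (hT : treeCv T = true)
    (h : partOK m val T qs treeN = true)
    (hkn : (edges (relW.getD j []) k).all (fun e => Nat.testBit (maskAfter qs treeN) e) = true)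
    (hne : Nat.beq (qprod ((edges (relW.getD j []) k).map (cv T))) (wAct m (wd k) (val.getD j 0)) = false) : False := by
  rw [List.all_eq_true] at hkn
  rw [R.path_val hk hj T fun e he => R.part_sound T qs treeN (R.tree_sound T hT) h e (hkn e he),
    Nat.beq_refl] at hne
  exact absurd hne (by simp)

end Rels

end CfsgLib.HeShape
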