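/-
Positions of the packed matrices of the coset words.
-/
import Mathlib.Data.Nat.Notation

set_option autoImplicit false

namespace CfsgLib.HeShape

/-- The coset of a packed matrix, eight bits each. -/
def posN : ℕ := 364715828865989299597425246014730603294935355301855363144849251289707074220205056774260985716368667079126027696822687055663544494609812213997685356344803737289587660544989097171622399163413561728400580423618730155623066069166631255876013067694540007556005834459531116836191005171963808008848993032811616407895331103363314965881113953531208274004285494446191215041795943364095534882115710169544647869245491808276841719314639869259830044623040823268339410742830788519064048621419593621262411513891148131514580204341146266542500498960450854639365760935230140040767171466357368798616651320990836379589854696382579479894658737945441186420454271802577711442127669077204383001235750990826724433630334685673102152925960724796014555837160368884522738130056870066452577700716870874435600800178195368751795921015615764592730095708317406251186665113128138999334814471794092990033413198535428015643644528424413840961879858286638921374902088825506530579909472803659295726441836267711081254032130000181149373561479498017073330348619181529630374695655862390496253709682370018506244220000635370046220914634882439460408154418840192462181151097879478371053855460606221965086604733853867047739628552067689547538721687368376516608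

end CfsgLib.HeShape
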