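/-
Words in two generators of SL(3, 2), computed with packed matrices.
-/
import Cfsg.Agent.Lib.HeShape.Cert
import Cfsg.Agent.Lib.HeShape.Mat3Data
import Mathlib.Data.ZMod.Basic
import Mathlib.LinearAlgebra.Matrix.SpecialLinearGroup
import Mathlib.Algebra.BigOperators.Fin

set_option autoImplicit false
set_option maxRecDepth 20000

namespace CfsgLib.HeShape

open CfsgLib.CosetEnum

local notation "M3" => Matrix (Fin 3) (Fin 3) (ZMod 2)
local notation "SL3" => Matrix.SpecialLinearGroup (Fin 3) (ZMod 2)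

/-- The matrix of a packed code. -/
def mat3 (a : ℕ) : M3 := Matrix.of fun i j => cond (a.testBit (3 * i + j)) 1 0

/-- A number with given nine bits. -/
noncomputable def bits9 (e : ℕ → Bool) : ℕ :=
  Nat.rec (nat_lit 0) (fun n ih => Nat.add ih (Bool.rec (nat_lit 0) (Nat.shiftLeft (nat_lit 1) n) (e n))) 9

/-- The product of packed matrices. -/
noncomputable def mul3 (a b : ℕ) : ℕ :=
  bits9 fun n => ((a.testBit (3 * (n / 3)) && b.testBit (n % 3)) ^^ (a.testBit (3 * (n / 3) + 1) && b.testBit (3 + n % 3))) ^^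
    (a.testBit (3 * (n / 3) + 2) && b.testBit (6 + n % 3))

theorem bits9_ok : ∀ e : Fin 9 → Bool, ∀ n : Fin 9,
    (bits9 fun i => if h : i < 9 then e ⟨i, h⟩ else false).testBit n = e n ∧
      (bits9 fun i => if h : i < 9 then e ⟨i, h⟩ else false) < 512 := by decide +kernel

theorem bits9_congr (e : ℕ → Bool) : bits9 e = bits9 fun i => if h : i < 9 then (fun j : Fin 9 => e j) ⟨i, h⟩ else false := by
  rfl

theorem testBit_bits9 (e : ℕ → Bool) {n : ℕ} (hn : n < 9) : (bits9 e).testBit n = e n := by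
  rw [bits9_congr]
  exact (bits9_ok (fun j => e j) ⟨n, hn⟩).1

theorem bits9_lt (e : ℕ → Bool) : bits9 e < 512 := by
  rw [bits9_congr]
  exact (bits9_ok (fun j => e j) 0).2

theorem mat3_mul (a b : ℕ) : mat3 a * mat3 b = mat3 (mul3 a b) := by
  ext i j
  have hi := i.2
  have hj := j.2
  rw [Matrix.mul_apply, Fin.sum_univ_three]
  simp only [mat3, Matrix.of_apply, mul3, testBit_bits9 _ (show 3 * (i : ℕ) + j < 9 by omega),
    show (3 * (i : ℕ) + j) / 3 = i by omega, show (3 * (i : ℕ) + j) % 3 = j by omega, Fin.val_zero, Fin.val_one,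
    Fin.val_two, mul_zero, mul_one, zero_add, add_zero, show 3 * 2 = 6 from rfl]
  have key : ∀ p q r p' q' r' : Bool, (cond p 1 0 * cond p' 1 0 + cond q 1 0 * cond q' 1 0 + cond r 1 0 * cond r' 1 0 :
      ZMod 2) = cond (((p && p') ^^ (q && q')) ^^ (r && r')) 1 0 := by decide
  exact key _ _ _ _ _ _

theorem mat3_inj {a b : ℕ} (ha : a < 512) (hb : b < 512) (h : mat3 a = mat3 b) : a = b := by
  refine Nat.eq_of_testBit_eq fun n => ?_
  by_cases hn : n < 9
  · have e := congrFun (congrFun h ⟨n / 3, by omega⟩) ⟨n % 3, Nat.mod_lt _ (by norm_num)⟩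
    simp only [mat3, Matrix.of_apply, show 3 * (n / 3) + n % 3 = n by omega] at e
    revert e
    cases a.testBit n <;> cases b.testBit n <;> simp
  · have h9 : 512 ≤ 2 ^ n := le_trans (by norm_num) (Nat.pow_le_pow_right two_pos (not_lt.mp hn))
    rw [Nat.testBit_lt_two_pow (lt_of_lt_of_le ha h9), Nat.testBit_lt_two_pow (lt_of_lt_of_le hb h9)]

theorem det94 : (mat3 94).det = 1 := by rw [Matrix.det_fin_three]; decide +kernel

theorem det124 : (mat3 124).det = 1 := by rw [Matrix.det_fin_three]; decide +kernel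

theorem det125 : (mat3 125).det = 1 := by rw [Matrix.det_fin_three]; decide +kernel

/-- The element of order seven. -/
def sS : SL3 := ⟨mat3 94, det94⟩

/-- The involution. -/
def sT : SL3 := ⟨mat3 124, det124⟩

/-- The element of order three. -/
def sR : SL3 := ⟨mat3 125, det125⟩

/-- The code of a letter: zero the involution, one the element of order seven, two the element of order three. -/
noncomputable def code3 (s : ℕ) : ℕ := Bool.rec (Bool.rec (nat_lit 125) (nat_lit 94) (Nat.beq s (nat_lit 1))) (nat_lit 124)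
  (Nat.beq s (nat_lit 0))

/-- The element of a letter. -/
noncomputable def elt3 (s : ℕ) : SL3 := Bool.rec (Bool.rec sR sS (Nat.beq s (nat_lit 1))) sT (Nat.beq s (nat_lit 0))

/-- The code of a word. -/
noncomputable def wc3 (w : List ℕ) : ℕ := List.rec (nat_lit 273) (fun s _ ih => force ih fun r => mul3 (code3 s) r) w

theorem wc3_cons (s : ℕ) (w : List ℕ) : wc3 (s :: w) = mul3 (code3 s) (wc3 w) := force_eq _ _

theorem wc3_lt : ∀ w, wc3 w < 512
  | [] => by show 273 < 512; norm_num
  | s :: w => by rw [wc3_cons]; exact bits9_lt _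

theorem wc3_spec : ∀ w : List ℕ, ((w.map elt3).prod : SL3).1 = mat3 (wc3 w)
  | [] => by
    show (1 : M3) = mat3 273
    decide +kernel
  | s :: w => by
    rw [List.map_cons, List.prod_cons, Matrix.SpecialLinearGroup.coe_mul, wc3_spec w, wc3_cons, ← mat3_mul]
    congr 1
    unfold elt3 code3
    cases Nat.beq s 0 <;> cases Nat.beq s 1 <;> rfl

theorem word3_eq {v w : List ℕ} (h : Nat.beq (wc3 v) (wc3 w) = true) : (v.map elt3).prod = (w.map elt3).prod :=
  Subtype.ext (by rw [wc3_spec, wc3_spec, Nat.eq_of_beq_eq_true h])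

theorem pos_ok : ∀ k < 168, fld posN (8 * wc3 (wd k)) 8 = k := by decide +kernel

theorem word3_inj {k l : ℕ} (hk : k < 168) (hl : l < 168) (h : ((wd k).map elt3).prod = ((wd l).map elt3).prod) :
    k = l := by
  have e := congrArg Subtype.val h
  rw [wc3_spec, wc3_spec] at e
  rw [← pos_ok k hk, ← pos_ok l hl, mat3_inj (wc3_lt _) (wc3_lt _) e]

end CfsgLib.HeShape
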