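/-
Two generators with standard images and values of the defining words.
-/
import Cfsg.Agent.Lib.HeShape.Coords
import Cfsg.Agent.Lib.HeShape.Classify
import Cfsg.Agent.Lib.HeShape.Mat3

set_option autoImplicit false
set_option maxRecDepth 20000

namespace CfsgLib.HeShape

open CfsgLib.CosetEnum

/-- The values of the defining words modulo the centre. -/
def r0 (_m : ℕ) : ℕ := 0

/-- The values of the defining words modulo the centre. -/
def r2 (m : ℕ) : ℕ := [0, 5, 16].getD m 0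

theorem qmul_mod_ok : ∀ x < 128, ∀ y < 128, qmul x y % 64 = (x % 64) ^^^ (y % 64) := by decide +kernel

theorem xor_z_ok : ∀ a < 128, Nat.xor a 64 % 64 = a % 64 := by decide +kernel

theorem cbit_ok : ∀ x < 128, ∀ y < 128, (qmul x y = qmul y x ↔ cbit x y = 0) ∧
    cbit (x % 64) (y % 64) = cbit x y ∧ cbit x y < 2 := by decide +kernel

theorem sq_ok : ∀ x < 128, qmul (x % 64) (x % 64) = qmul x x := by decide +kernel

theorem sign_ok : ∀ s < 64, ∃ u < 64, ∀ i < 6, cbit u (2 ^ i) = (s.testBit i).toNat := by decide +kernel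

theorem cbit_flip_ok : ∀ u < 64, ∀ i < 6, qmul u (2 ^ i) = qmul (2 ^ i ^^^ 64 * cbit u (2 ^ i)) u := by decide +kernel

theorem rels_m_ok : ∀ m < 3, ∀ j < 4, ∀ c < 128,
    (∀ i < 6, qmul c (2 ^ i) = qmul (wAct m (relW.getD j []) (2 ^ i)) c) →
      c % 64 = (vals (r0 m) 0 (r2 m)).getD j 0 := by decide +kernel

theorem imgs_lt : ∀ m < 3, ∀ i < 6, (aImg m).getD i 0 < 64 := by decide

theorem lin_std : ∀ x < 64, lin stdImg x = x := by decide +kernel

theorem factor_mod (x v : ℕ) {i : ℕ} (hi : i < 6) : factor (x % 64) i (v % 64) = factor x i v % 64 := by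
  unfold factor
  rw [show (x % 64).testBit i = x.testBit i by
    rw [show (64 : ℕ) = 2 ^ 6 from rfl, Nat.testBit_mod_two_pow, decide_eq_true hi, Bool.true_and]]
  cases x.testBit i <;> rfl

theorem qact_mod {y : List ℕ} (hy : ∀ i < 6, y.getD i 0 < 128) (x : ℕ) :
    qact y x % 64 = lin (y.map (· % 64)) (x % 64) := by
  have hf : ∀ i < 6, factor x i (y.getD i 0) < 128 := fun i hi => by
    unfold factor
    cases x.testBit i
    · exact (by norm_num : (0 : ℕ) < 128)
    · exact hy i hi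
  have hz : ∀ a < 128, Nat.xor a (Nat.land x 64) % 64 = a % 64 := by
    intro a ha
    have h1 : x &&& 2 ^ 6 = (x.testBit 6).toNat * 2 ^ 6 := Nat.and_two_pow x 6
    cases hb : x.testBit 6 <;> rw [hb] at h1
    · rw [show Nat.land x 64 = 0 by simpa using h1]
      exact congrArg (· % 64) (Nat.xor_zero a)
    · rw [show Nat.land x 64 = 64 by simpa using h1]
      exact xor_z_ok a ha
  have hg : ∀ i, (y.map (· % 64)).getD i 0 = y.getD i 0 % 64 := fun i => by
    simp only [List.getD_eq_getElem?_getD, List.getElem?_map]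
    cases y[i]? <;> rfl
  rw [qact, force_eq, hz _ (qmul_lt _ _), qmul_mod_ok _ (qmul_lt _ _) _ (hf 5 (by norm_num)),
    qmul_mod_ok _ (qmul_lt _ _) _ (hf 4 (by norm_num)), qmul_mod_ok _ (qmul_lt _ _) _ (hf 3 (by norm_num)),
    qmul_mod_ok _ (qmul_lt _ _) _ (hf 2 (by norm_num)), qmul_mod_ok _ (hf 0 (by norm_num)) _ (hf 1 (by norm_num))]
  simp only [lin, hg, factor_mod x _ (show 0 < 6 by norm_num), factor_mod x _ (show 1 < 6 by norm_num),
    factor_mod x _ (show 2 < 6 by norm_num), factor_mod x _ (show 3 < 6 by norm_num),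
    factor_mod x _ (show 4 < 6 by norm_num), factor_mod x _ (show 5 < 6 by norm_num)]
  rfl

theorem lin_pow (v : List ℕ) : ∀ i < 6, lin v (2 ^ i) = v.getD i 0 := by
  intro i hi
  have hz : ∀ a, Nat.xor 0 a = a := Nat.zero_xor
  have hz' : ∀ a, Nat.xor a 0 = a := Nat.xor_zero
  interval_cases i <;> simp [lin, factor, Nat.testBit, Nat.shiftRight_eq_div_pow, hz, hz']

namespace Hyp.Coords

variable {C : Type*} [Group C] {h : Hyp C} (D : h.Coords)

/-- The element acts on the codes modulo the centre by the given map. -/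
def Lin (c : C) (f : ℕ → ℕ) : Prop := ∀ x < 128, ∃ y < 128, c * D.ι x * c⁻¹ = D.ι y ∧ y % 64 = f (x % 64)

theorem ι_mem {x : ℕ} (hx : x < 128) : D.ι x ∈ h.Q := (D.mem _).mpr ⟨x, hx, rfl⟩

theorem Lin.comp {D : h.Coords} {c d : C} {f g : ℕ → ℕ} (hc : D.Lin c f) (hd : D.Lin d g) :
    D.Lin (c * d) (fun x => f (g x)) := by
  intro x hx
  obtain ⟨y, hy, e, ey⟩ := hd x hx
  obtain ⟨z, hz, e', ez⟩ := hc y hy
  refine ⟨z, hz, ?_, by rw [ez, ey]⟩
  rw [← e', ← e]
  group

theorem Lin.unique {D : h.Coords} {c : C} {f g : ℕ → ℕ} (hf : D.Lin c f) (hg : D.Lin c g) (x : ℕ) (hx : x < 64) :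
    f x = g x := by
  obtain ⟨y, hy, e, ey⟩ := hf x (by omega)
  obtain ⟨y', hy', e', ey'⟩ := hg x (by omega)
  rw [← Nat.mod_eq_of_lt hx, ← ey, ← ey', D.inj y hy y' hy' (e.symm.trans e')]

theorem lin_Q {q : C} (hq : q ∈ h.Q) : D.Lin q id := by
  intro x hx
  refine (Hyp.pw_cases (Hyp.bit q (D.ι x))).elim (fun hb => ⟨x, hx, ?_, rfl⟩) fun hb => ⟨qmul x 64, qmul_lt _ _, ?_, ?_⟩
  · rw [h.comm_spec hq (D.ι_mem hx), hb, h.pw_zero]
    group
  · rw [h.comm_spec hq (D.ι_mem hx), hb, h.pw_one, D.hom x hx 64 (by norm_num), D.ι64,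
      mul_assoc (D.ι x * q), ← h.z_comm q⁻¹]
    group
  · rw [qmul_mod_ok x hx 64 (by norm_num)]
    simp

theorem Lin.of_π {D : h.Coords} {c c' : C} {f : ℕ → ℕ} (hc : D.Lin c f) (e : h.π c = h.π c') : D.Lin c' f := by
  have hq : c' * c⁻¹ ∈ h.Q := h.π_eq_one.mp (by rw [map_mul, map_inv, e, mul_inv_cancel])
  have := (D.lin_Q hq).comp hc
  rwa [inv_mul_cancel_right] at this

theorem lin_w : D.Lin D.w (lin wImg) := fun x hx =>
  ⟨qact wImg x, qact_lt _ _, D.wact x hx, by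
    rw [qact_mod (by decide) x]
    congr 1⟩

theorem exists_imgs (c : C) : ∃ y : List ℕ, y.length = 6 ∧ (∀ i < 6, y.getD i 0 < 128) ∧
    (∀ i < 6, c * D.ι (2 ^ i) * c⁻¹ = D.ι (y.getD i 0)) ∧ (∀ x < 128, c * D.ι x * c⁻¹ = D.ι (qact y x)) ∧
      D.Lin c (lin (y.map (· % 64))) := by
  have hex : ∀ i : Fin 6, ∃ y < 128, D.ι y = c * D.ι (2 ^ (i : ℕ)) * c⁻¹ := fun i =>
    (D.mem _).mp (h.conj_mem c (D.ι_mem (lt_of_le_of_lt (Nat.pow_le_pow_right two_pos (Nat.le_of_lt_succ i.2))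
      (by norm_num))))
  choose f hf hfe using hex
  refine ⟨List.ofFn f, by simp, ?_⟩
  have hg : ∀ i (hi : i < 6), (List.ofFn f).getD i 0 = f ⟨i, hi⟩ := fun i hi => by
    rw [List.getD_eq_getElem _ _ (by simpa using hi), List.getElem_ofFn]
  have h1 : ∀ i < 6, (List.ofFn f).getD i 0 < 128 := fun i hi => hg i hi ▸ hf ⟨i, hi⟩
  have h2 : ∀ i < 6, c * D.ι (2 ^ i) * c⁻¹ = D.ι ((List.ofFn f).getD i 0) := fun i hi => by
    rw [hg i hi]; exact (hfe ⟨i, hi⟩).symm
  have h3 := conj_qact D.hom h1 c h2 (by rw [D.ι64, h.z_comm]; group)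
  exact ⟨h1, h2, h3, fun x hx => ⟨qact _ x, qact_lt _ _, h3 x hx, qact_mod h1 x⟩⟩

theorem level_ok {c : C} {y : List ℕ} (hy : ∀ i < 6, y.getD i 0 < 128) (hl : y.length = 6)
    (hc : ∀ i < 6, c * D.ι (2 ^ i) * c⁻¹ = D.ι (y.getD i 0)) : ∀ i < 6,
    lvlOK ((y.map (· % 64)).take i) ((y.map (· % 64)).getD i 0) = true := by
  have hg : ∀ i, (y.map (· % 64)).getD i 0 = y.getD i 0 % 64 := fun i => by
    simp only [List.getD_eq_getElem?_getD, List.getElem?_map]
    cases y[i]? <;> rfl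
  have h2 : ∀ i < 6, 2 ^ i < 128 := fun i hi =>
    lt_of_le_of_lt (Nat.pow_le_pow_right two_pos (Nat.le_of_lt_succ hi)) (by norm_num)
  intro i hi
  simp only [lvlOK, Bool.and_eq_true]
  refine ⟨?_, ?_⟩
  · rw [hg, sq_ok _ (hy i hi)]
    have hs : qmul (2 ^ i) (2 ^ i) = 0 := by interval_cases i <;> decide +kernel
    have e : D.ι (qmul (y.getD i 0) (y.getD i 0)) = D.ι 0 := by
      rw [D.hom _ (hy i hi) _ (hy i hi), ← hc i hi,
        show c * D.ι (2 ^ i) * c⁻¹ * (c * D.ι (2 ^ i) * c⁻¹) = c * (D.ι (2 ^ i) * D.ι (2 ^ i)) * c⁻¹ by group,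
        ← D.hom _ (h2 i hi) _ (h2 i hi), hs, ι_zero D.hom]
      group
    rw [D.inj _ (qmul_lt _ _) 0 (by norm_num) e]
    rfl
  · have hlen : ((y.map (· % 64)).take i).length = i := by simp [hl]; omega
    rw [hlen]
    refine allN_intro fun j hj => ?_
    have hj6 : j < 6 := by omega
    have e1 : ((y.map (· % 64)).take i).getD j 0 = y.getD j 0 % 64 := by
      rw [← hg j, List.getD_eq_getElem?_getD, List.getD_eq_getElem?_getD, List.getElem?_take_of_lt hj]
    rw [e1, hg, (cbit_ok _ (hy j hj6) _ (hy i hi)).2.1]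
    obtain ⟨a1, -, a3⟩ := cbit_ok _ (hy j hj6) _ (hy i hi)
    obtain ⟨b1, -, b3⟩ := cbit_ok _ (h2 j hj6) _ (h2 i hi)
    have key : cbit (y.getD j 0) (y.getD i 0) = 0 ↔ cbit (2 ^ j) (2 ^ i) = 0 := by
      rw [← a1, ← b1]
      have iι : ∀ a < 128, ∀ b < 128, (qmul a b = qmul b a ↔ D.ι a * D.ι b = D.ι b * D.ι a) := fun a ha b hb => by
        rw [← D.hom a ha b hb, ← D.hom b hb a ha]
        exact ⟨congrArg _, D.inj _ (qmul_lt _ _) _ (qmul_lt _ _)⟩
      rw [iι _ (hy j hj6) _ (hy i hi), iι _ (h2 j hj6) _ (h2 i hi), ← hc i hi, ← hc j hj6,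
        show c * D.ι (2 ^ j) * c⁻¹ * (c * D.ι (2 ^ i) * c⁻¹) = c * (D.ι (2 ^ j) * D.ι (2 ^ i)) * c⁻¹ by group,
        show c * D.ι (2 ^ i) * c⁻¹ * (c * D.ι (2 ^ j) * c⁻¹) = c * (D.ι (2 ^ i) * D.ι (2 ^ j)) * c⁻¹ by group,
        mul_left_inj, mul_right_inj]
    rw [show Nat.shiftLeft 1 j = 2 ^ j from Nat.one_shiftLeft j, show Nat.shiftLeft 1 i = 2 ^ i from Nat.one_shiftLeft i,
      show cbit (y.getD j 0) (y.getD i 0) = cbit (2 ^ j) (2 ^ i) by omega]
    exact Nat.beq_refl _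

theorem linRel_ok {a : C} {v : List ℕ} (ha : D.Lin a (lin v)) (w : List ℕ)
    (hπ : h.π ((w.map fun s => Bool.rec D.w a (Nat.beq s 0)).prod) = 1) : linRel v w = true := by
  have hw : ∀ w : List ℕ, D.Lin ((w.map fun s => Bool.rec D.w a (Nat.beq s 0)).prod) (linW v w) := by
    intro w
    induction w with
    | nil => exact D.lin_Q (by simp [one_mem])
    | cons s w ih =>
      rw [List.map_cons, List.prod_cons]
      have hs : D.Lin (Bool.rec D.w a (Nat.beq s 0)) (fun r => Bool.rec (lin wImg r) (lin v r) (Nat.beq s 0)) := by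
        cases Nat.beq s 0
        · exact D.lin_w
        · exact ha
      intro x hx
      obtain ⟨y, hy, e, ey⟩ := (hs.comp ih) x hx
      exact ⟨y, hy, e, by rw [ey]; exact (force_eq (linW v w (x % 64)) fun r => (Bool.rec (lin wImg r) (lin v r) (Nat.beq s 0) : ℕ)).symm⟩
  refine allN_intro fun i hi => ?_
  rw [force_eq, show Nat.shiftLeft 1 i = 2 ^ i from Nat.one_shiftLeft i]
  have e := Lin.unique (hw w) (D.lin_Q (h.π_eq_one.mp hπ)) (2 ^ i)
    (lt_of_le_of_lt (Nat.pow_le_pow_right two_pos (Nat.le_of_lt_succ hi)) (by norm_num))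
  rw [e]
  exact Nat.beq_refl _

theorem conj_lin {v : List ℕ} {a : C} (ha : D.Lin a (lin v)) (n : ℕ) (hn : n ≤ 7) :
    D.Lin (D.w ^ n * a * (D.w ^ n)⁻¹) (linW v (List.replicate n 1 ++ 0 :: List.replicate (7 - n) 1)) := by
  have hpow : ∀ k (x : C) (w : List ℕ), D.Lin x (linW v w) → D.Lin (D.w ^ k * x) (linW v (List.replicate k 1 ++ w)) := by
    intro k
    induction k with
    | zero => intro x w hx; simpa using hx
    | succ k ih =>
      intro x w hx
      rw [pow_succ', mul_assoc]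
      intro z hz
      obtain ⟨y, hy, e, ey⟩ := (D.lin_w.comp (ih x w hx)) z hz
      exact ⟨y, hy, e, by rw [ey]; exact (force_eq _ _).symm⟩
  have hinv : (D.w ^ n)⁻¹ = D.w ^ (7 - n) := by
    refine inv_eq_of_mul_eq_one_right ?_
    rw [← pow_add, Nat.add_sub_cancel' hn, D.w7]
  rw [hinv, mul_assoc]
  refine hpow n _ _ ?_
  intro z hz
  have h7 := hpow (7 - n) 1 [] (D.lin_Q (one_mem _))
  rw [mul_one, List.append_nil] at h7
  obtain ⟨y, hy, e, ey⟩ := (ha.comp h7) z hz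
  exact ⟨y, hy, e, by rw [ey]; exact (force_eq _ _).symm⟩

theorem lin_of_basis {c : C} {f : ℕ → ℕ} (hf : D.Lin c f) (u : List ℕ)
    (hu : ∀ i < 6, f (2 ^ i) = lin u (2 ^ i)) : D.Lin c (lin u) := by
  obtain ⟨y, -, -, -, -, hL⟩ := D.exists_imgs c
  have e : ∀ i < 6, (y.map (· % 64)).getD i 0 = u.getD i 0 := fun i hi => by
    rw [← lin_pow _ i hi, ← lin_pow u i hi, ← hu i hi]
    exact Lin.unique hL hf _ (lt_of_le_of_lt (Nat.pow_le_pow_right two_pos (Nat.le_of_lt_succ hi)) (by norm_num))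
  intro x hx
  obtain ⟨z, hz, e', ez⟩ := hL x hx
  exact ⟨z, hz, e', by rw [ez]; simp only [lin, e 0 (by norm_num), e 1 (by norm_num), e 2 (by norm_num), e 3 (by norm_num),
    e 4 (by norm_num), e 5 (by norm_num)]⟩

theorem exists_r (hwπ : h.π D.w = sS) : ∃ r a : C, D.Lin r (lin rImg) ∧ ∃ n ≤ 7,
    h.π a = sS ^ n * sT * (sS ^ n)⁻¹ ∧ h.π r = sS ^ n * sR * (sS ^ n)⁻¹ := by
  obtain ⟨r0, hr0⟩ := h.π_surj sR
  obtain ⟨a0, ha0⟩ := h.π_surj sT
  obtain ⟨y, hl, hy, hc, -, hL⟩ := D.exists_imgs r0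
  have hrel : h.π (r0 * D.w) = h.π (D.w * D.w * r0) := by
    rw [map_mul, map_mul, map_mul, hr0, hwπ]
    have := word3_eq (v := [2, 1]) (w := [1, 1, 2]) (by decide +kernel)
    change sR * (sS * 1) = sS * (sS * (sR * 1)) at this
    simpa [mul_assoc] using this
  set v := y.map (· % 64) with hv
  have hcomm : ∀ b < 64, lin v (lin wImg b) = lin wImg (lin wImg (lin v b)) := fun b hb =>
    Lin.unique ((hL.comp D.lin_w).of_π hrel) ((D.lin_w.comp D.lin_w).comp hL) b hb
  have hv64 : ∀ x ∈ v, x < 64 := fun x hx => by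
    obtain ⟨a, -, rfl⟩ := List.mem_map.mp hx
    exact Nat.mod_lt _ (by norm_num)
  have hsearch := dfs_spec 6 [] v searchR_ok (by simp [hv, hl]) hv64 fun i hi => by
    rw [List.nil_append]
    refine ⟨?_, D.level_ok hy hl hc i hi⟩
    have hlen : (v.take i).length = i := by simp [hv, hl]; omega
    simp only [extraR, hlen, Bool.or_eq_true]
    by_cases h0 : i = 0
    · exact Or.inl (by rw [h0]; rfl)
    by_cases h3 : i = 3
    · exact Or.inr (Or.inl (by rw [h3]; rfl))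
    refine Or.inr (Or.inr ?_)
    have hg : (v.take i).getD (Nat.pred i) 0 = v.getD (Nat.pred i) 0 := by
      rw [List.getD_eq_getElem?_getD, List.getD_eq_getElem?_getD, List.getElem?_take_of_lt (show Nat.pred i < i by simp; omega)]
    rw [hg, ← lin_pow v (Nat.pred i) (by simp; omega), ← hcomm _
      (lt_of_le_of_lt (Nat.pow_le_pow_right two_pos (show Nat.pred i ≤ 5 by simp; omega)) (by norm_num)),
      show lin wImg (2 ^ Nat.pred i) = 2 ^ i by interval_cases i <;> first | omega | decide +kernel, lin_pow v i hi]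
    exact Nat.beq_refl _
  rw [List.nil_append, leafR, Bool.or_eq_true] at hsearch
  rcases hsearch with hbad | hs
  · rw [Bool.not_eq_true', ← Bool.not_eq_true] at hbad
    refine absurd (allN_intro fun i hi => ?_) hbad
    rw [force_eq, show Nat.shiftLeft 1 i = 2 ^ i from Nat.one_shiftLeft i, hcomm _
      (lt_of_le_of_lt (Nat.pow_le_pow_right two_pos (Nat.le_of_lt_succ hi)) (by norm_num))]
    exact Nat.beq_refl _
  rw [List.any_eq_true] at hs
  obtain ⟨⟨p, n⟩, hmem, hs⟩ := hs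
  rw [Bool.and_eq_true] at hs
  have hn : n ≤ 7 := (by decide : ∀ s ∈ rSols, s.2 ≤ 7) _ hmem
  refine ⟨D.w ^ n * r0 * (D.w ^ n)⁻¹, D.w ^ n * a0 * (D.w ^ n)⁻¹, ?_, n, hn, by simp [hwπ, ha0], by simp [hwπ, hr0]⟩
  exact D.lin_of_basis (D.conj_lin hL n hn) rImg fun i hi => by
    have := allN_spec hs.2 i hi
    rw [force_eq, show Nat.shiftLeft 1 i = 2 ^ i from Nat.one_shiftLeft i] at this
    exact Nat.eq_of_beq_eq_true this

theorem exists_a (hwπ : h.π D.w = sS) : ∃ a : C, ∃ m < 3, ∃ n ≤ 14, D.Lin a (lin (aImg m)) ∧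
    h.π a = sS ^ n * sT * (sS ^ n)⁻¹ := by
  obtain ⟨r, a, hr, n, hn, ha, hrπ⟩ := D.exists_r hwπ
  obtain ⟨y, hl, hy, hc, -, hL⟩ := D.exists_imgs a
  set v := y.map (· % 64) with hv
  set g := sS ^ n with hg
  have hS : g * sS * g⁻¹ = sS := by rw [hg]; group
  have hw' : h.π D.w = g * sS * g⁻¹ := by rw [hS, hwπ]
  have hword : ∀ (w : List ℕ) (x : ℕ → C), (∀ s, h.π (x s) = g * elt3 s * g⁻¹) →
      h.π (w.map x).prod = g * (w.map elt3).prod * g⁻¹ := by
    intro w x hx
    induction w with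
    | nil => simp
    | cons s w ih => rw [List.map_cons, List.prod_cons, map_mul, ih, hx, List.map_cons, List.prod_cons]; group
  set X : ℕ → C := fun s => Bool.rec (Bool.rec r D.w (Nat.beq s 1)) a (Nat.beq s 0) with hX
  have hXπ : ∀ s, h.π (X s) = g * elt3 s * g⁻¹ := by
    intro s
    simp only [hX, elt3]
    cases Nat.beq s 0 <;> cases Nat.beq s 1 <;> first | exact ha | exact hw' | exact hrπ
  have hrel : ∀ u w : List ℕ, Nat.beq (wc3 u) (wc3 w) = true → h.π (u.map X).prod = h.π (w.map X).prod :=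
    fun u w e => by rw [hword u X hXπ, hword w X hXπ, word3_eq e]
  have hrt : ∀ b < 64, lin rImg (lin v b) = lin v (lin rImg (lin rImg b)) := fun b hb =>
    Lin.unique (Lin.of_π (hr.comp hL) (show h.π (r * a) = h.π (a * (r * r)) by
      have := hrel [2, 0] [0, 2, 2] (by decide +kernel)
      change h.π (r * (a * 1)) = h.π (a * (r * (r * 1))) at this
      simpa [mul_assoc] using this)) (hL.comp (hr.comp hr)) b hb
  have htr : ∀ b < 64, lin v (lin rImg b) = lin rImg (lin rImg (lin v b)) := fun b hb =>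
    Lin.unique (Lin.of_π (hL.comp hr) (show h.π (a * r) = h.π (r * r * a) by
      have := hrel [0, 2] [2, 2, 0] (by decide +kernel)
      change h.π (a * (r * 1)) = h.π (r * (r * (a * 1))) at this
      simpa [mul_assoc] using this)) ((hr.comp hr).comp hL) b hb
  have hlr : ∀ j < 3, linRel v (relW.getD j []) = true := fun j hj => D.linRel_ok hL _ (by
    rw [show ((relW.getD j []).map fun s => Bool.rec D.w a (Nat.beq s 0)) = (relW.getD j []).map X from
      List.map_congr_left fun s hs => by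
        have h2 := relW_lt j (by omega) s hs
        interval_cases s <;> rfl]
    rw [hword _ X hXπ, word3_eq (w := []) (by interval_cases j <;> decide +kernel)]
    simp)
  have hv64 : ∀ x ∈ v, x < 64 := fun x hx => by
    obtain ⟨c, -, rfl⟩ := List.mem_map.mp hx
    exact Nat.mod_lt _ (by norm_num)
  have hsearch := dfs_spec 6 [] v searchT_ok (by simp [hv, hl]) hv64 fun i hi => by
    rw [List.nil_append]
    refine ⟨?_, D.level_ok hy hl hc i hi⟩
    have hlen : (v.take i).length = i := by simp [hv, hl]; omega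
    simp only [extraT, hlen]
    have key : ∀ k < 6, lin rImg (v.getD k 0) = lin v (lin rImg (lin rImg (2 ^ k))) := fun k hk => by
      rw [← lin_pow v k hk]
      exact hrt _ (lt_of_le_of_lt (Nat.pow_le_pow_right two_pos (Nat.le_of_lt_succ hk)) (by norm_num))
    have gd : ∀ k < i, (v.take i).getD k 0 = v.getD k 0 := fun k hk => by
      rw [List.getD_eq_getElem?_getD, List.getD_eq_getElem?_getD, List.getElem?_take_of_lt hk]
    interval_cases i
    · show Nat.beq _ _ = true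
      rw [key 0 hi, show lin rImg (lin rImg (2 ^ 0)) = 2 ^ 0 by decide +kernel, lin_pow v 0 hi]; exact Nat.beq_refl _
    · rfl
    · show Nat.beq _ _ = true
      rw [gd 1 (by norm_num), key 2 hi, show lin rImg (lin rImg (2 ^ 2)) = 2 ^ 1 by decide +kernel, lin_pow v 1 (by norm_num)]
      exact Nat.beq_refl _
    · show Nat.beq _ _ = true
      rw [key 3 hi, show lin rImg (lin rImg (2 ^ 3)) = 2 ^ 3 by decide +kernel, lin_pow v 3 hi]; exact Nat.beq_refl _
    · rfl
    · show Nat.beq _ _ = true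
      rw [gd 4 (by norm_num), key 5 hi, show lin rImg (lin rImg (2 ^ 5)) = 2 ^ 4 by decide +kernel, lin_pow v 4 (by norm_num)]
      exact Nat.beq_refl _
  rw [List.nil_append, leafT, Bool.or_eq_true] at hsearch
  rcases hsearch with hbad | hs
  · rw [Bool.not_eq_true', ← Bool.not_eq_true] at hbad
    refine absurd ?_ hbad
    simp only [Bool.and_eq_true]
    refine ⟨allN_intro fun i hi => ?_, hlr 0 (by norm_num), hlr 1 (by norm_num), hlr 2 (by norm_num)⟩
    rw [force_eq, show Nat.shiftLeft 1 i = 2 ^ i from Nat.one_shiftLeft i, htr _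
      (lt_of_le_of_lt (Nat.pow_le_pow_right two_pos (Nat.le_of_lt_succ hi)) (by norm_num))]
    exact Nat.beq_refl _
  rw [List.any_eq_true] at hs
  obtain ⟨⟨p, l, m⟩, hmem, hs⟩ := hs
  simp only [Bool.and_eq_true] at hs
  have hl7 : l ≤ 7 := (by decide : ∀ s ∈ tSols, s.2.1 ≤ 7) _ hmem
  refine ⟨D.w ^ l * a * (D.w ^ l)⁻¹, m, blt_iff.mp hs.2.1, l + n, by omega,
    D.lin_of_basis (D.conj_lin hL l hl7) (aImg m) fun i hi => ?_, ?_⟩
  · have := allN_spec hs.2.2 i hi
    rw [force_eq, show Nat.shiftLeft 1 i = 2 ^ i from Nat.one_shiftLeft i] at this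
    exact Nat.eq_of_beq_eq_true this
  · rw [map_mul, map_mul, map_inv, map_pow, hwπ, ha, hg, pow_add]
    group

theorem inner_sign (c : C) {x : ℕ} (hx : x < 128) {y : ℕ} (hy : y < 128) (hc : c * D.ι x * c⁻¹ = D.ι y)
    (b : ℕ) (hb : b < 2) : c * D.ι (x ^^^ 64 * b) * c⁻¹ = D.ι (y ^^^ 64 * b) := by
  interval_cases b
  · simpa using hc
  · rw [show x ^^^ 64 * 1 = qmul x 64 from qact_z x hx, show y ^^^ 64 * 1 = qmul y 64 from qact_z y hy,
      D.hom x hx 64 (by norm_num), D.hom y hy 64 (by norm_num), D.ι64, ← hc, ← mul_assoc c,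
      mul_assoc (c * D.ι x) h.z, ← h.z_comm c⁻¹]
    group

/-- The generators with standard images and values. -/
theorem exists_rels (hwπ : h.π D.w = sS) : ∃ m < 3, ∃ i < 2, ∃ k < 2,
    ∃ R : Rels C m (vals (r0 m + 64 * i) 0 (r2 m + 64 * k)), R.ι = D.ι ∧
      (∀ k₁ < 168, ∀ k₂ < 168, ∀ q < 128, R.el (wd k₁) = R.ι q * R.el (wd k₂) → k₁ = k₂) := by
  obtain ⟨a0, m, hm, n, hn, hL0, hπ0⟩ := D.exists_a hwπ
  obtain ⟨y, hyl, hy, hc, -, hLy⟩ := D.exists_imgs a0
  have hymod : ∀ i < 6, y.getD i 0 % 64 = (aImg m).getD i 0 := fun i hi => by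
    have e := Lin.unique hLy hL0 _ (lt_of_le_of_lt (Nat.pow_le_pow_right two_pos (Nat.le_of_lt_succ hi)) (by norm_num))
    rw [lin_pow _ i hi, lin_pow _ i hi] at e
    rw [← e, List.getD_eq_getElem?_getD, List.getD_eq_getElem?_getD, List.getElem?_map]
    cases y[i]? <;> rfl
  have hbits : ∀ t < 128, t ^^^ 64 * (t.testBit 6).toNat = t % 64 := by decide +kernel
  let sgn : ℕ := ((List.range 6).map fun i => ((y.getD i 0).testBit 6).toNat * 2 ^ i).sum
  have hsgn : sgn < 64 ∧ ∀ i < 6, sgn.testBit i = (y.getD i 0).testBit 6 := by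
    have key : ∀ b0 b1 b2 b3 b4 b5 : Bool, (([b0, b1, b2, b3, b4, b5].zipIdx.map fun p : Bool × ℕ => p.1.toNat * 2 ^ p.2).sum < 64) ∧
        ∀ i < 6, (([b0, b1, b2, b3, b4, b5].zipIdx.map fun p : Bool × ℕ => p.1.toNat * 2 ^ p.2).sum).testBit i =
          [b0, b1, b2, b3, b4, b5].getD i false := by decide +kernel
    have := key ((y.getD 0 0).testBit 6) ((y.getD 1 0).testBit 6) ((y.getD 2 0).testBit 6) ((y.getD 3 0).testBit 6)
      ((y.getD 4 0).testBit 6) ((y.getD 5 0).testBit 6)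
    refine ⟨this.1, fun i hi => ?_⟩
    have e := this.2 i hi
    interval_cases i <;> exact e
  obtain ⟨u, hu, hus⟩ := sign_ok sgn hsgn.1
  set a1 := a0 * D.ι u with ha1
  have hu' : u < 128 := by omega
  have ha1i : ∀ i < 6, a1 * D.ι (2 ^ i) * a1⁻¹ = D.ι ((aImg m).getD i 0) := fun i hi => by
    have h2 : 2 ^ i < 128 := lt_of_le_of_lt (Nat.pow_le_pow_right two_pos (Nat.le_of_lt_succ hi)) (by norm_num)
    have hcb : cbit u (2 ^ i) < 2 := (cbit_ok u hu' _ h2).2.2
    have e : D.ι u * D.ι (2 ^ i) * (D.ι u)⁻¹ = D.ι (2 ^ i ^^^ 64 * cbit u (2 ^ i)) := by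
      rw [← D.hom u hu' _ h2, cbit_flip_ok u hu i hi,
        D.hom _ (Nat.xor_lt_two_pow (n := 7) h2 (by omega)) u hu']
      group
    rw [← hymod i hi, ← hbits _ (hy i hi), ← hsgn.2 i hi, ← hus i hi,
      ← D.inner_sign a0 h2 (hy i hi) (hc i hi) _ hcb, ← e, ha1]
    group
  have hπ1 : h.π a1 = sS ^ n * sT * (sS ^ n)⁻¹ := by
    rw [ha1, map_mul, h.π_eq_one.mpr (D.ι_mem hu'), mul_one, hπ0]
  have hconj : ∀ (a : C), (∃ b, a = a1 * h.pw b) → ∀ x < 128, a * D.ι x * a⁻¹ = D.ι (gAct m 0 x) := by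
    rintro a ⟨b, rfl⟩ x hx
    have e : a1 * h.pw b * D.ι x * (a1 * h.pw b)⁻¹ = a1 * D.ι x * a1⁻¹ := by
      rw [mul_assoc a1 (h.pw b) (D.ι x), ← h.pw_comm b (D.ι x)]
      group
    rw [e]
    exact conj_qact D.hom (fun i hi => by have := imgs_lt m hm i hi; omega) a1 ha1i (by rw [D.ι64, h.z_comm]; group) x hx
  have hwc : ∀ x < 128, D.w * D.ι x * D.w⁻¹ = D.ι (gAct m 1 x) := D.wact
  let G2 : C → ℕ → C := fun a s => if s = 0 then a else D.w
  have hGπ : ∀ a, h.π a = h.π a1 → ∀ w : List ℕ, (∀ s ∈ w, s < 2) →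
      h.π (w.map (G2 a)).prod = sS ^ n * (w.map elt3).prod * (sS ^ n)⁻¹ := by
    intro a ha w hw
    induction w with
    | nil => simp
    | cons s w ih =>
      have hs := hw s List.mem_cons_self
      rw [List.map_cons, List.prod_cons, map_mul, ih fun r hr => hw r (List.mem_cons_of_mem _ hr), List.map_cons,
        List.prod_cons]
      interval_cases s
      · simp only [G2, if_pos rfl, ha, hπ1]
        show _ = sS ^ n * (sT * _) * _
        group
      · simp only [G2, if_neg (show (1 : ℕ) ≠ 0 by norm_num), hwπ]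
        show _ = sS ^ n * (sS * _) * _
        group
  have hval : ∀ a, (∃ b, a = a1 * h.pw b) → ∀ j < 4, ∃ c < 128, ((relW.getD j []).map (G2 a)).prod = D.ι c ∧
      c % 64 = (vals (r0 m) 0 (r2 m)).getD j 0 := by
    intro a ha j hj
    have haπ : h.π a = h.π a1 := by
      obtain ⟨b, rfl⟩ := ha
      rw [map_mul, h.π_eq_one.mpr (h.pw_mem b), mul_one]
    have hq : ((relW.getD j []).map (G2 a)).prod ∈ h.Q := h.π_eq_one.mp (by
      rw [hGπ a haπ _ (relW_lt j hj), word3_eq (w := []) (by interval_cases j <;> decide +kernel)]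
      simp)
    obtain ⟨c, hc, e⟩ := (D.mem _).mp hq
    refine ⟨c, hc, e.symm, rels_m_ok m hm j hj c hc fun i hi => ?_⟩
    have h2 : 2 ^ i < 128 := lt_of_le_of_lt (Nat.pow_le_pow_right two_pos (Nat.le_of_lt_succ hi)) (by norm_num)
    have hw : ∀ w : List ℕ, (∀ s ∈ w, s < 2) → ∀ x < 128,
        (w.map (G2 a)).prod * D.ι x * ((w.map (G2 a)).prod)⁻¹ = D.ι (wAct m w x) := by
      intro w hw x hx
      induction w with
      | nil => simp [wAct]
      | cons s w ih =>
        have hs := hw s List.mem_cons_self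
        rw [wAct_cons, List.map_cons, List.prod_cons]
        have hg : G2 a s * D.ι (wAct m w x) * (G2 a s)⁻¹ = D.ι (gAct m s (wAct m w x)) := by
          interval_cases s
          · simpa [G2] using hconj a ha _ (wAct_lt m hx w)
          · simpa [G2] using hwc _ (wAct_lt m hx w)
        rw [← hg, ← ih fun r hr => hw r (List.mem_cons_of_mem _ hr)]
        group
    refine D.inj _ (qmul_lt _ _) _ (qmul_lt _ _) ?_
    rw [D.hom _ hc _ h2, D.hom _ (wAct_lt m h2 _) _ hc, ← hw _ (relW_lt j hj) _ h2, ← e]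
    group
  obtain ⟨c1, hc1, e1, em1⟩ := hval a1 ⟨0, by rw [h.pw_zero, mul_one]⟩ 1 (by norm_num)
  set b : ZMod 2 := (((c1.testBit 6).toNat : ℕ) : ZMod 2) with hb
  set a := a1 * h.pw b with ha
  obtain ⟨d0, hd0, f0, fm0⟩ := hval a ⟨b, rfl⟩ 0 (by norm_num)
  obtain ⟨d2, hd2, f2, fm2⟩ := hval a ⟨b, rfl⟩ 2 (by norm_num)
  have hrel1 : ((relW.getD 1 []).map (G2 a)).prod = D.ι 0 := by
    rw [ι_zero D.hom]
    simp only [relW, vals, List.getD_cons_succ, List.getD_cons_zero, List.map_cons, List.map_nil, List.prod_cons,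
      List.prod_nil, mul_one, G2, if_pos, if_neg (show (1 : ℕ) ≠ 0 by norm_num)] at e1 em1 ⊢
    have hpc : ∀ g, g * h.pw b = h.pw b * g := h.pw_comm b
    have e3 : D.w * (a * (D.w * (a * (D.w * a)))) = D.w * (a1 * (D.w * (a1 * (D.w * a1)))) * h.pw b := by
      rw [ha]
      have hsq : h.pw b * h.pw b = 1 := by rw [← h.pw_add, CharTwo.add_self_eq_zero, h.pw_zero]
      have mv : ∀ x y : C, x * h.pw b * y = x * y * h.pw b := fun x y => by rw [mul_assoc, ← hpc y, mul_assoc]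
      simp only [← mul_assoc, mv]
      rw [mul_assoc _ (h.pw b) (h.pw b), hsq, mul_one]
    rw [e3, e1]
    have hc : c1 = 0 ∨ c1 = 64 := by omega
    rcases hc with rfl | rfl
    · rw [ι_zero D.hom, one_mul, hb, show Nat.testBit 0 6 = false by decide]
      exact h.pw_zero
    · rw [D.ι64, hb, show Nat.testBit 64 6 = true by decide]
      show h.z * h.pw 1 = 1
      rw [h.pw_one, h.z_sq]
  have hrel3 : ((relW.getD 3 []).map (G2 a)).prod = D.ι 0 := by
    rw [ι_zero D.hom, ← D.w7]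
    simp [relW, G2, pow_succ, mul_assoc]
  have hsplit : ∀ d < 128, ∀ r < 64, d % 64 = r → d = r + 64 * (d / 64) ∧ d / 64 < 2 := fun d hd r _ e => by omega
  have hr2 : r2 m < 64 := by interval_cases m <;> decide
  have hr0' : r0 m < 64 := by show 0 < 64; norm_num
  obtain ⟨s0, t0⟩ := hsplit d0 hd0 _ hr0' (by simpa [vals] using fm0)
  obtain ⟨s2, t2⟩ := hsplit d2 hd2 _ hr2 (by simpa [vals] using fm2)
  refine ⟨m, hm, d0 / 64, t0, d2 / 64, t2,
    ⟨D.ι, D.hom, D.inj, G2 a, ?_, ?_, ?_⟩, rfl, ?_⟩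
  · intro s hs x hx
    interval_cases s
    · simpa [G2] using hconj a ⟨b, rfl⟩ x hx
    · simpa [G2] using hwc x hx
  · intro j hj
    interval_cases j
    · simpa [vals, ← s0] using f0
    · simpa [vals] using hrel1
    · simpa [vals, ← s2] using f2
    · simpa [vals] using hrel3
  · intro j hj
    interval_cases j <;> simp [vals] <;> omega
  · intro k₁ h₁ k₂ h₂ q hq e
    have haπ : h.π a = h.π a1 := by rw [ha, map_mul, h.π_eq_one.mpr (h.pw_mem b), mul_one]
    have e' : h.π ((wd k₁).map (G2 a)).prod = h.π ((wd k₂).map (G2 a)).prod := by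
      have := congrArg h.π e
      rwa [map_mul, h.π_eq_one.mpr (D.ι_mem hq), one_mul] at this
    rw [hGπ a haπ _ (wd_lt _), hGπ a haπ _ (wd_lt _), mul_left_inj, mul_right_inj] at e'
    exact word3_inj h₁ h₂ e'

end Hyp.Coords

end CfsgLib.HeShape
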