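/-
The centraliser is one of the six models.
-/
import Cfsg.Agent.Lib.HeShape.Gens
import Cfsg.Agent.Lib.HeShape.Six
import Cfsg.Agent.Lib.SLCard
import Mathlib.GroupTheory.Index

set_option autoImplicit false
set_option maxRecDepth 20000

namespace CfsgLib.HeShape

local notation "SL3" => Matrix.SpecialLinearGroup (Fin 3) (ZMod 2)

theorem card_sl3 : Nat.card SL3 = 168 := by
  have : Fact (Nat.Prime 2) := ⟨Nat.prime_two⟩
  have h := CfsgLib.SLCard.card_units_mul_card_SL (F := ZMod 2) (n := 3) (by norm_num)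
  rw [Matrix.card_GL_field, ZMod.card] at h
  simpa [Fin.prod_univ_three] using h

theorem sS_pow : sS ^ 7 = 1 ∧ sS ≠ 1 ∧ sS ^ 512 = sS := by
  have h7 : sS ^ 7 = 1 := by
    have := word3_eq (v := [1, 1, 1, 1, 1, 1, 1]) (w := []) (by decide +kernel)
    change sS * (sS * (sS * (sS * (sS * (sS * (sS * 1)))))) = 1 at this
    simpa [pow_succ, mul_assoc] using this
  refine ⟨h7, ?_, ?_⟩
  · intro e
    have h1 : mat3 94 = mat3 273 := by
      rw [show mat3 94 = sS.1 from rfl, e]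
      decide +kernel
    exact absurd (mat3_inj (by norm_num) (by norm_num) h1) (by norm_num)
  · rw [show (512 : ℕ) = 7 * 73 + 1 from rfl, pow_add, pow_mul, h7, one_pow, one_mul, pow_one]

variable {C : Type*} [Group C] [Finite C] (h : Hyp C)

include h in
theorem Hyp.card_group : Nat.card C = 21504 := by
  have e := Subgroup.card_eq_card_quotient_mul_card_subgroup h.π.ker
  rw [Nat.card_congr (QuotientGroup.quotientKerEquivOfSurjective h.π h.π_surj).toEquiv, card_sl3, h.π_ker,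
    h.card] at e
  exact e

/-- The centraliser is coded by one of the six models. -/
theorem Hyp.exists_model : ∃ D ∈ models, ∃ R : Coded C D, R.ι 64 = h.z ∧
    (∀ q, q ∈ h.Q ↔ ∃ x < 128, R.ι x = q) ∧ Function.Bijective fun x : Fin 21504 => R.τ x := by
  obtain ⟨hS7, hS1, hS512⟩ := sS_pow
  obtain ⟨x, hx⟩ := h.π_surj (sS ^ 4)
  have hx7 : x ^ 7 ∈ h.Q := h.π_eq_one.mp (by rw [map_pow, hx, ← pow_mul, mul_comm, pow_mul, hS7, one_pow])
  set w := x ^ 128 with hw
  have hw7 : w ^ 7 = 1 := by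
    have h1 := pow_card_eq_one' (x := (⟨x ^ 7, hx7⟩ : h.Q))
    rw [h.card] at h1
    rw [hw, ← pow_mul, mul_comm, pow_mul]
    exact congrArg Subtype.val h1
  have hwπ : h.π w = sS := by rw [hw, map_pow, hx, ← pow_mul]; exact hS512
  have hwQ : w ∉ h.Q := fun hq => hS1 (hwπ.symm.trans (h.π_eq_one.mpr hq))
  obtain ⟨D, hD⟩ := h.exists_coords hw7 hwQ
  obtain ⟨m, hm, i, hi, k, hk, R, hRι, hsep⟩ := D.exists_rels (by rw [hD, hwπ])
  obtain ⟨T, hT, R', hι, hel⟩ := CfsgLib.HeShape.exists_model (H := C) hm hi hk (r := r2 m) rfl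
    ⟨R.ι, R.hom, R.inj, R.g, R.act, fun j hj => by simpa [vals, r0] using R.rel j hj,
      fun j hj => by simpa [vals, r0] using R.val_lt j hj⟩
  have hι' : R'.ι = D.ι := hι.trans hRι
  refine ⟨T, hT, R', by rw [hι', D.ι64], fun q => by rw [D.mem, hι'], ?_⟩
  refine (Nat.bijective_iff_injective_and_card _).mpr ⟨fun x y e => Fin.ext (R'.τ_inj ?_ x.2 y.2 e),
    by rw [Nat.card_fin, h.card_group]⟩
  intro k₁ h₁ k₂ h₂ q hq e'
  refine hsep k₁ h₁ k₂ h₂ q hq ?_
  rw [Rels.T, Rels.T, hel, hel, hι] at e'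
  exact e'

end CfsgLib.HeShape
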