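/-
The multiplication of the codes of the extension.
-/
import Cfsg.Agent.Lib.HeShape.Cert
import Mathlib.Tactic.IntervalCases

set_option autoImplicit false
set_option maxRecDepth 20000

namespace CfsgLib.HeShape

open CfsgLib.CosetEnum

/-- The tables of a model: edge values and the images under the cosets. -/
structure Tab where
  /-- the type of the involution -/
  m : ℕ
  /-- the values of the defining words -/
  val : List ℕ
  /-- the edge values -/
  cT : ℕ
  /-- the images of the generators under the cosets -/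
  aT : ℕ

/-- The part in the extraspecial group. -/
noncomputable def qp (x : ℕ) : ℕ := Nat.mod x (nat_lit 128)

/-- The coset part. -/
noncomputable def kp (x : ℕ) : ℕ := Nat.div x (nat_lit 128)

/-- The code of two parts. -/
noncomputable def mk (q k : ℕ) : ℕ := Nat.add q (Nat.mul (nat_lit 128) k)

/-- The images of the generators under a coset. -/
noncomputable def kImg (D : Tab) (k : ℕ) : List ℕ :=
  [fld D.aT (Nat.mul (nat_lit 42) k) (nat_lit 7), fld D.aT (Nat.add (Nat.mul (nat_lit 42) k) (nat_lit 7)) (nat_lit 7),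
    fld D.aT (Nat.add (Nat.mul (nat_lit 42) k) (nat_lit 14)) (nat_lit 7),
    fld D.aT (Nat.add (Nat.mul (nat_lit 42) k) (nat_lit 21)) (nat_lit 7),
    fld D.aT (Nat.add (Nat.mul (nat_lit 42) k) (nat_lit 28)) (nat_lit 7),
    fld D.aT (Nat.add (Nat.mul (nat_lit 42) k) (nat_lit 35)) (nat_lit 7)]

/-- The product with a generator. -/
noncomputable def stp (D : Tab) (x s : ℕ) : ℕ :=
  force (kp x) fun k => mk (qmul (qp x) (cv D.cT (Nat.add (Nat.mul (nat_lit 2) k) s))) (nx k s)

/-- The product with a word. -/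
noncomputable def stpW (D : Tab) (w : List ℕ) : ℕ → ℕ :=
  List.rec (motive := fun _ => ℕ → ℕ) (fun x => x) (fun s _ ih x => force (stp D x s) ih) w

/-- The product of two codes. -/
noncomputable def cmul (D : Tab) (x y : ℕ) : ℕ :=
  force x fun x => force y fun y =>
    force (kp x) fun k => force (qp y) fun q => stpW D (wd (kp y)) (mk (qmul (qp x) (qact (kImg D k) q)) k)

/-- The images under the cosets are right. -/
noncomputable def actOK (D : Tab) : Bool :=
  allN 168 fun k => force k fun k => Nat.beq (wAct D.m (wd k) (nat_lit 64)) (nat_lit 64) &&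
    allN 6 fun i => Nat.beq ((kImg D k).getD i (nat_lit 0)) (wAct D.m (wd k) (Nat.shiftLeft (nat_lit 1) i))

theorem qp_lt (x : ℕ) : qp x < 128 := Nat.mod_lt _ (by norm_num)

theorem kp_lt {x : ℕ} (h : x < 21504) : kp x < 168 := (Nat.div_lt_iff_lt_mul (by norm_num)).mpr (by omega)

theorem qp_mk {q : ℕ} (hq : q < 128) (k : ℕ) : qp (mk q k) = q := by
  show (q + 128 * k) % 128 = q
  omega

theorem kp_mk {q : ℕ} (hq : q < 128) (k : ℕ) : kp (mk q k) = k := by
  show (q + 128 * k) / 128 = k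
  omega

theorem mk_parts (x : ℕ) : mk (qp x) (kp x) = x := Nat.mod_add_div x 128

theorem mk_lt {q k : ℕ} (hq : q < 128) (hk : k < 168) : mk q k < 21504 := by
  show q + 128 * k < 21504
  omega

theorem kImg_lt (D : Tab) (k : ℕ) : ∀ i < 6, (kImg D k).getD i 0 < 128 := by
  intro i hi
  interval_cases i <;> exact Nat.mod_lt _ (by norm_num)

theorem kp_stpW (D : Tab) : ∀ (w : List ℕ) (x : ℕ), kp (stpW D w x) = runK w (kp x)
  | [], _ => rfl
  | s :: w, x => by
    show kp (force (stp D x s) (stpW D w)) = _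
    rw [force_eq, kp_stpW D w, runK_cons, stp, force_eq, kp_mk (qmul_lt _ _)]

theorem cmul_def (D : Tab) (x y : ℕ) :
    cmul D x y = stpW D (wd (kp y)) (mk (qmul (qp x) (qact (kImg D (kp x)) (qp y))) (kp x)) := by
  rw [cmul, force_eq, force_eq, force_eq, force_eq]

theorem kp_cmul (D : Tab) (x y : ℕ) : kp (cmul D x y) = runK (wd (kp y)) (kp x) := by
  rw [cmul_def, kp_stpW, kp_mk (qmul_lt _ _)]

theorem stpW_lt (D : Tab) : ∀ (w : List ℕ), (∀ s ∈ w, s < 2) → ∀ x < 21504, stpW D w x < 21504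
  | [], _, x, hx => hx
  | s :: w, h, x, hx => by
    show force (stp D x s) (stpW D w) < 21504
    rw [force_eq]
    refine stpW_lt D w (fun r hr => h r (List.mem_cons_of_mem _ hr)) _ ?_
    rw [stp, force_eq]
    exact mk_lt (qmul_lt _ _) (nx_lt_ok _ (kp_lt hx) s (h s List.mem_cons_self))

theorem cmul_lt (D : Tab) {x : ℕ} (hx : x < 21504) (y : ℕ) : cmul D x y < 21504 := by
  rw [cmul_def]
  exact stpW_lt D _ (wd_lt _) _ (mk_lt (qmul_lt _ _) (kp_lt hx))

variable {H : Type*} [Group H] {D : Tab}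

/-- A coded group for the tables: all edges are known. -/
structure Coded (H : Type*) [Group H] (D : Tab) extends Rels H D.m D.val where
  edge : ∀ e < 336, toRels.d e = ι (cv D.cT e)
  actok : actOK D = true

namespace Coded

variable (R : Coded H D)

/-- The element of a code. -/
noncomputable def τ (x : ℕ) : H := R.ι (qp x) * R.T (kp x)

theorem T_zero : R.T 0 = 1 := by
  rw [Rels.T, wd_zero]
  rfl

theorem τ_q {x : ℕ} (hx : x < 128) : R.τ x = R.ι x := by
  rw [τ, show qp x = x from Nat.mod_eq_of_lt hx, show kp x = 0 from Nat.div_eq_of_lt hx, R.T_zero, mul_one]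

theorem τ_zero : R.τ 0 = 1 := by rw [R.τ_q (by norm_num), ι_zero R.hom]

theorem τ_stp {x s : ℕ} (hx : x < 21504) (hs : s < 2) : R.τ (stp D x s) = R.τ x * R.g s := by
  have hk := kp_lt hx
  rw [stp, force_eq, τ, qp_mk (qmul_lt _ _), kp_mk (qmul_lt _ _), R.hom _ (qp_lt x) _ (cv_lt _ _), τ]
  show R.ι (qp x) * R.ι (cv D.cT (2 * kp x + s)) * R.T (nx (kp x) s) = _
  rw [← R.edge (2 * kp x + s) (by omega), R.d_pair _ hs]
  group

theorem τ_stpW : ∀ (w : List ℕ), (∀ s ∈ w, s < 2) → ∀ x < 21504, R.τ (stpW D w x) = R.τ x * R.el w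
  | [], _, x, _ => by simp [stpW, Rels.el]
  | s :: w, h, x, hx => by
    have hs := h s List.mem_cons_self
    show R.τ (force (stp D x s) (stpW D w)) = _
    rw [force_eq, τ_stpW w (fun r hr => h r (List.mem_cons_of_mem _ hr)), R.τ_stp hx hs,
      show R.el (s :: w) = R.g s * R.el w by simp [Rels.el], mul_assoc]
    rw [stp, force_eq]
    exact mk_lt (qmul_lt _ _) (nx_lt_ok _ (kp_lt hx) s hs)

theorem conj_T {k q : ℕ} (hk : k < 168) (hq : q < 128) : R.T k * R.ι q * (R.T k)⁻¹ = R.ι (qact (kImg D k) q) := by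
  have h := allN_spec R.actok k hk
  rw [force_eq, Bool.and_eq_true] at h
  refine conj_qact R.hom (kImg_lt D k) _ (fun i hi => ?_) ?_ q hq
  · rw [Nat.eq_of_beq_eq_true (allN_spec h.2 i hi), show Nat.shiftLeft 1 i = 1 <<< i from rfl, Nat.one_shiftLeft]
    exact R.conj_el (lt_of_le_of_lt (Nat.pow_le_pow_right two_pos (Nat.le_of_lt_succ hi)) (by norm_num)) _ (wd_lt k)
  · exact (R.conj_el (by norm_num) _ (wd_lt k)).trans (congrArg R.ι (Nat.eq_of_beq_eq_true h.1))

theorem τ_mul {x y : ℕ} (hx : x < 21504) : R.τ (cmul D x y) = R.τ x * R.τ y := by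
  rw [cmul_def, R.τ_stpW _ (wd_lt _) _ (mk_lt (qmul_lt _ _) (kp_lt hx)), τ, qp_mk (qmul_lt _ _), kp_mk (qmul_lt _ _),
    R.hom _ (qp_lt x) _ (qact_lt _ _), ← R.conj_T (kp_lt hx) (qp_lt y), τ, τ]
  show _ = R.ι (qp x) * R.T (kp x) * (R.ι (qp y) * R.el (wd (kp y)))
  group

theorem τ_inj (hsep : ∀ k₁ < 168, ∀ k₂ < 168, ∀ q < 128, R.T k₁ = R.ι q * R.T k₂ → k₁ = k₂)
    {x y : ℕ} (hx : x < 21504) (hy : y < 21504) (h : R.τ x = R.τ y) : x = y := by
  have hq : ∀ a < 128, ∀ b < 128, ∃ c < 128, R.ι c = (R.ι a)⁻¹ * R.ι b := by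
    intro a ha b hb
    obtain ⟨a', ha', e⟩ := qinv_ok a ha
    exact ⟨qmul a' b, qmul_lt _ _, by
      rw [R.hom a' ha' b hb, eq_inv_of_mul_eq_one_right (show R.ι a * R.ι a' = 1 by
        rw [← R.hom a ha a' ha', e, ι_zero R.hom])]⟩
  obtain ⟨c, hc, e⟩ := hq _ (qp_lt x) _ (qp_lt y)
  have hk : kp x = kp y := by
    refine hsep _ (kp_lt hx) _ (kp_lt hy) c hc ?_
    rw [e, mul_assoc]
    exact (eq_inv_mul_iff_mul_eq.mpr h)
  have hq' : qp x = qp y := by
    refine R.inj _ (qp_lt x) _ (qp_lt y) ?_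
    have h' : R.ι (qp x) * R.T (kp x) = R.ι (qp y) * R.T (kp y) := h
    rw [hk] at h'
    exact mul_right_cancel h'
  rw [← mk_parts x, ← mk_parts y, hk, hq']

end Coded

end CfsgLib.HeShape
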