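/-
Counting the codes that commute with a given code, by their squares; lists of involutions.
-/
import Cfsg.Agent.Lib.HeShape.Model
import Mathlib.Algebra.BigOperators.Group.Finset.Basic
import Mathlib.Algebra.BigOperators.Intervals
import Mathlib.Data.Nat.Count

set_option autoImplicit false
set_option maxRecDepth 20000

namespace CfsgLib.HeShape

open CfsgLib.CosetEnum

/-- The code commutes with the given code. -/
noncomputable def comF (D : Tab) (r x : ℕ) : Bool :=
  cond (Nat.blt r (nat_lit 128))
    (Nat.beq (qmul (qp x) (qact (kImg D (kp x)) r)) (qmul r (qp x)))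
    (Nat.beq (runK (wd (kp r)) (kp x)) (runK (wd (kp x)) (kp r)) && Nat.beq (cmul D x r) (cmul D r x))

/-- The sum over all codes. -/
noncomputable def sumF (f : ℕ → ℕ) : ℕ :=
  Nat.rec (nat_lit 0) (fun k ih => Nat.add ih
    (Nat.rec (nat_lit 0) (fun q acc => Nat.add acc (f (mk q k))) (nat_lit 128))) (nat_lit 168)

/-- The weight of a code: its membership and the comparisons of its square. -/
noncomputable def weight (D : Tab) (r a b c x : ℕ) : ℕ :=
  cond (comF D r x) (force (cmul D x x) fun s =>
    Nat.add (nat_lit 1) (Nat.add (cond (Nat.beq s a) (Nat.shiftLeft (nat_lit 1) (nat_lit 16)) (nat_lit 0))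
      (Nat.add (cond (Nat.beq s b) (Nat.shiftLeft (nat_lit 1) (nat_lit 32)) (nat_lit 0))
        (cond (Nat.beq s c) (Nat.shiftLeft (nat_lit 1) (nat_lit 48)) (nat_lit 0))))) (nat_lit 0)

/-- The packed counts. -/
noncomputable def stat (D : Tab) (r a b c : ℕ) : ℕ := sumF (weight D r a b c)

theorem sumF_eq (f : ℕ → ℕ) : sumF f = ∑ x ∈ Finset.range 21504, f x := by
  have hq : ∀ k n, (Nat.rec 0 (fun q acc => acc + f (mk q k)) n : ℕ) = ∑ q ∈ Finset.range n, f (128 * k + q) := by
    intro k n
    induction n with
    | zero => rfl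
    | succ n ih =>
      show (Nat.rec 0 (fun q acc => acc + f (mk q k)) n : ℕ) + f (mk n k) = _
      rw [ih, Finset.sum_range_succ, show mk n k = 128 * k + n from Nat.add_comm _ _]
  have hk : ∀ n, (Nat.rec 0 (fun k ih => ih + (Nat.rec 0 (fun q acc => acc + f (mk q k)) 128 : ℕ)) n : ℕ) =
      ∑ x ∈ Finset.range (128 * n), f x := by
    intro n
    induction n with
    | zero => rfl
    | succ n ih =>
      show (Nat.rec 0 (fun k ih => ih + (Nat.rec 0 (fun q acc => acc + f (mk q k)) 128 : ℕ)) n : ℕ) +
        (Nat.rec 0 (fun q acc => acc + f (mk q n)) 128 : ℕ) = _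
      rw [ih, hq n 128, Nat.mul_succ, Finset.sum_range_add]
  exact hk 168

/-- The number of codes commuting with `r`. -/
noncomputable def numC (D : Tab) (r : ℕ) : ℕ := ((Finset.range 21504).filter fun x => comF D r x = true).card

/-- The number of codes commuting with `r` whose square is `s`. -/
noncomputable def numR (D : Tab) (r s : ℕ) : ℕ :=
  ((Finset.range 21504).filter fun x => comF D r x = true ∧ cmul D x x = s).card

theorem numR_le (D : Tab) (r s : ℕ) : numR D r s ≤ 21504 :=
  le_trans (Finset.card_filter_le _ _) (le_of_eq (Finset.card_range _))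

theorem numC_le (D : Tab) (r : ℕ) : numC D r ≤ 21504 :=
  le_trans (Finset.card_filter_le _ _) (le_of_eq (Finset.card_range _))

theorem stat_eq (D : Tab) (r a b c : ℕ) : stat D r a b c =
    numC D r + (2 ^ 16 * numR D r a + (2 ^ 32 * numR D r b + 2 ^ 48 * numR D r c)) := by
  have hw : ∀ x, weight D r a b c x = (if comF D r x = true then 1 else 0) +
      ((if comF D r x = true ∧ cmul D x x = a then 2 ^ 16 else 0) +
        ((if comF D r x = true ∧ cmul D x x = b then 2 ^ 32 else 0) +
          (if comF D r x = true ∧ cmul D x x = c then 2 ^ 48 else 0))) := by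
    intro x
    have hb : ∀ (s t v : ℕ), cond (Nat.beq s t) v 0 = if s = t then v else 0 := by
      intro s t v
      by_cases e : s = t
      · subst e; simp
      · rw [show Nat.beq s t = false from Bool.eq_false_iff.mpr fun h => e (Nat.eq_of_beq_eq_true h), if_neg e]; rfl
    unfold weight
    cases comF D r x
    · simp
    · simp only [cond_true, force_eq, hb, if_true, true_and]
      rfl
  have hc : ∀ (p : ℕ → Prop) [DecidablePred p] (v : ℕ),
      (∑ x ∈ Finset.range 21504, if p x then v else 0) = v * ((Finset.range 21504).filter p).card := by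
    intro p _ v
    rw [← Finset.sum_filter, Finset.sum_const, smul_eq_mul, mul_comm]
  rw [stat, sumF_eq]
  simp only [hw, Finset.sum_add_distrib, hc, numC, numR, one_mul]

theorem stat_unpack (D : Tab) (r a b c v : ℕ) (h : stat D r a b c = v) :
    numC D r = v % 2 ^ 16 ∧ numR D r a = v / 2 ^ 16 % 2 ^ 16 ∧ numR D r b = v / 2 ^ 32 % 2 ^ 16 ∧
      numR D r c = v / 2 ^ 48 := by
  rw [stat_eq] at h
  have := numC_le D r
  have := numR_le D r a
  have := numR_le D r b
  have := numR_le D r c
  subst h
  omega

/-- A list holds exactly the codes commuting with `r`. -/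
noncomputable def listOK (D : Tab) (r : ℕ) (L SQ : List ℕ) (n : ℕ) : Bool :=
  Nat.beq L.length n && (List.rec (motive := fun _ => ℕ → Bool) (fun _ => true)
    (fun x _ ih lo => Nat.blt lo (Nat.succ x) && (Nat.blt x (nat_lit 21504) && (comF D r x && ih (Nat.succ x)))) L
    (nat_lit 0) && (L.map fun x => cmul D x x) == SQ)

theorem listOK_spec {D : Tab} {r : ℕ} {L SQ : List ℕ} {n : ℕ} (hn : numC D r = n) (h : listOK D r L SQ n = true)
    (s : ℕ) : numR D r s = SQ.count s := by
  simp only [listOK, Bool.and_eq_true, beq_iff_eq] at h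
  obtain ⟨hl, hs, rfl⟩ := h
  have key : ∀ (L : List ℕ) (lo : ℕ), (List.rec (motive := fun _ => ℕ → Bool) (fun _ => true)
      (fun x _ ih lo => Nat.blt lo (Nat.succ x) && (Nat.blt x 21504 && (comF D r x && ih (Nat.succ x)))) L lo) = true →
      L.Nodup ∧ ∀ x ∈ L, lo ≤ x ∧ x < 21504 ∧ comF D r x = true := by
    intro L
    induction L with
    | nil => intro lo _; exact ⟨List.nodup_nil, by simp⟩
    | cons x L ih =>
      intro lo hx
      simp only [Bool.and_eq_true] at hx
      obtain ⟨h1, h2, h3, h4⟩ := hx
      obtain ⟨hnd, hall⟩ := ih _ h4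
      refine ⟨List.nodup_cons.mpr ⟨fun hm => absurd (hall x hm).1 (by omega), hnd⟩, ?_⟩
      intro y hy
      have h1' := blt_iff.mp h1
      rcases List.mem_cons.mp hy with rfl | hy
      · exact ⟨by omega, blt_iff.mp h2, h3⟩
      · obtain ⟨g1, g2, g3⟩ := hall y hy
        exact ⟨by omega, g2, g3⟩
  obtain ⟨hnd, hall⟩ := key L 0 hs
  have e : L.toFinset = (Finset.range 21504).filter fun x => comF D r x = true := by
    refine Finset.eq_of_subset_of_card_le (fun x hx => ?_) ?_
    · obtain ⟨-, g2, g3⟩ := hall x (List.mem_toFinset.mp hx)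
      simp [g2, g3]
    · rw [List.toFinset_card_of_nodup hnd, Nat.eq_of_beq_eq_true hl, ← hn]
      exact le_rfl
  rw [numR, ← Finset.filter_filter, ← e, List.count_eq_countP, List.countP_map, List.countP_eq_length_filter,
    ← List.toFinset_card_of_nodup (hnd.filter _), List.toFinset_filter]
  simp

/-- The count in a list, for the kernel. -/
noncomputable def cntL (SQ : List ℕ) (s : ℕ) : ℕ :=
  List.rec (nat_lit 0) (fun x _ ih => cond (Nat.beq x s) (Nat.succ ih) ih) SQ

theorem cntL_eq (s : ℕ) : ∀ SQ : List ℕ, cntL SQ s = SQ.count s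
  | [] => rfl
  | x :: SQ => by
    show cond (Nat.beq x s) (Nat.succ (cntL SQ s)) (cntL SQ s) = _
    rw [cntL_eq s SQ, List.count_cons]
    by_cases e : x = s
    · subst e; simp
    · rw [show Nat.beq x s = false from Bool.eq_false_iff.mpr fun h => e (Nat.eq_of_beq_eq_true h)]
      simp [e]

end CfsgLib.HeShape
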