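/-
Fusion of the central involution: the classes of involutions and the criteria.
-/
import Cfsg.Agent.Lib.HeShape.Count
import Mathlib.GroupTheory.Subgroup.Centralizer
import Mathlib.SetTheory.Cardinal.Finite

set_option autoImplicit false
set_option maxRecDepth 20000

namespace CfsgLib.HeShape

open CfsgLib.CosetEnum

/-- Representatives of the classes of involutions other than the central one, and the involutions with a class
index and a conjugating code. -/
structure CData where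
  /-- the representatives -/
  reps : List ℕ
  /-- the involutions -/
  inv : List (ℕ × ℕ × ℕ)
  /-- the packed statistics of the representatives -/
  stats : List ℕ

/-- The code is the central one or one of the involutions. -/
noncomputable def isListed (cd : CData) (x : ℕ) : Bool :=
  Nat.beq x (nat_lit 64) || cd.inv.any fun e => Nat.beq e.1 x

/-- All codes of involutions are listed. -/
noncomputable def complete (D : Tab) (cd : CData) : Bool :=
  allN 168 fun k' => force k' fun k => !Nat.beq (runK (wd k) k) (nat_lit 0) || allN 128 fun q' => force q' fun q =>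
    force (mk q k) fun x => !Nat.beq (cmul D x x) (nat_lit 0) || (Nat.beq x (nat_lit 0) || isListed cd x)

/-- The listed involutions are conjugate to their representatives. -/
noncomputable def conjOK (D : Tab) (cd : CData) : Bool :=
  cd.inv.all fun e => Nat.blt e.2.1 cd.reps.length && (Nat.blt e.1 (nat_lit 21504) && (Nat.blt e.2.2 (nat_lit 21504) &&
    (Nat.blt (cd.reps.getD e.2.1 (nat_lit 0)) (nat_lit 21504) &&
      Nat.beq (cmul D e.2.2 (cd.reps.getD e.2.1 (nat_lit 0))) (cmul D e.1 e.2.2))))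

/-- The statistics of one class. -/
def StatOK (D : Tab) (cd : CData) (i : ℕ) : Prop :=
  stat D (cd.reps.getD i 0) 64 (cd.reps.getD i 0) 0 = cd.stats.getD i 0

/-- The classes with the given indices can be fused in a way swapping the central involution. -/
noncomputable def compat (cd : CData) (i j : ℕ) : Bool :=
  force (cd.stats.getD i (nat_lit 0)) fun a => force (cd.stats.getD j (nat_lit 0)) fun b =>
    Nat.beq (Nat.mod a (nat_lit 65536)) (Nat.mod b (nat_lit 65536)) &&
      (Nat.beq (Nat.mod (Nat.div a (nat_lit 65536)) (nat_lit 65536)) (Nat.mod (Nat.div b (nat_lit 4294967296)) (nat_lit 65536)) &&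
        Nat.beq (Nat.mod (Nat.div a (nat_lit 4294967296)) (nat_lit 65536)) (Nat.mod (Nat.div b (nat_lit 65536)) (nat_lit 65536)))

/-- The code is in one of two classes or is the central one. -/
noncomputable def inCls (cd : CData) (i j y : ℕ) : Bool :=
  Nat.beq y (nat_lit 64) || cd.inv.any fun e => Nat.beq e.1 y && (Nat.beq e.2.1 i || Nat.beq e.2.1 j)

/-- A witness for a pair of classes. -/
structure Wit where
  /-- the classes -/
  i : ℕ
  /-- the classes -/
  j : ℕ
  /-- the code in the extraspecial subgroup -/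
  x : ℕ
  /-- the packed statistics of the witness -/
  src : ℕ
  /-- the squares in the centraliser of the second representative -/
  sq : List ℕ

/-- The counts of a candidate agree with those of the witness. -/
noncomputable def matchW (D : Tab) (v : ℕ) (w : Wit) (y : ℕ) : Bool :=
  comF D v y &&
    (Nat.beq (cntL w.sq y) (Nat.mod (Nat.div w.src (nat_lit 65536)) (nat_lit 65536)) &&
      (Nat.beq (cntL w.sq (cmul D y v)) (Nat.mod (Nat.div w.src (nat_lit 4294967296)) (nat_lit 65536)) &&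
        Nat.beq (cntL w.sq (cmul D y (nat_lit 64))) (Nat.div w.src (nat_lit 281474976710656))))

/-- Every candidate for the image of the witness is fused to the central involution, perhaps after translation. -/
noncomputable def witOK (D : Tab) (cd : CData) (w : Wit) : Bool :=
  force (cd.reps.getD w.j (nat_lit 0)) fun v => force (cd.reps.getD w.i (nat_lit 0)) fun u =>
    (Nat.blt w.x (nat_lit 128) && (!Nat.beq w.x (nat_lit 0) && (!Nat.beq w.x (nat_lit 64) &&
      (comF D u w.x && Nat.beq (cmul D w.x w.x) (nat_lit 0))))) &&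
    ((nat_lit 64) :: cd.inv.map Prod.fst).all fun y =>
      !matchW D v w y || (inCls cd w.i w.j y || inCls cd w.i w.j (cmul D y v))

variable {G : Type*} [Group G]

theorem xor_ne_ok : ∀ x < 128, x ≠ 0 → x ≠ 64 → Nat.xor x 64 ≠ 0 ∧ Nat.xor x 64 ≠ 64 := by decide +kernel

/-- A group with an involution whose centraliser is coded. -/
structure Model (G : Type*) [Group G] (D : Tab) where
  /-- the involution -/
  t : G
  t_sq : t * t = 1
  t_ne : t ≠ 1
  /-- the coded centraliser -/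
  R : Coded (Subgroup.centralizer ({t} : Set G)) D
  ι64 : (R.ι 64 : G) = t
  bij : Function.Bijective fun x : Fin 21504 => R.τ x

namespace Model

variable {D : Tab} (M : Model G D)

/-- The element of a code. -/
noncomputable def el (x : ℕ) : G := (M.R.τ x : G)

/-- The element is conjugate to the involution. -/
def IsT (g : G) : Prop := ∃ h : G, h * M.t * h⁻¹ = g

theorem el_comm (x : ℕ) : M.el x * M.t = M.t * M.el x :=
  Subgroup.mem_centralizer_singleton_iff.mp (M.R.τ x).2

theorem el_mul {x : ℕ} (hx : x < 21504) (y : ℕ) : M.el (cmul D x y) = M.el x * M.el y := by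
  rw [el, M.R.τ_mul hx, Subgroup.coe_mul]
  rfl

theorem el_zero : M.el 0 = 1 := by rw [el, M.R.τ_zero, Subgroup.coe_one]

theorem el_64 : M.el 64 = M.t := by rw [el, M.R.τ_q (by norm_num), M.ι64]

theorem el_inj {x y : ℕ} (hx : x < 21504) (hy : y < 21504) (h : M.el x = M.el y) : x = y :=
  congrArg Fin.val (M.bij.1 (a₁ := ⟨x, hx⟩) (a₂ := ⟨y, hy⟩) (Subtype.ext h))

theorem el_surj {g : G} (hg : g * M.t = M.t * g) : ∃ x < 21504, M.el x = g := by
  obtain ⟨x, hx⟩ := M.bij.2 ⟨g, Subgroup.mem_centralizer_singleton_iff.mpr hg⟩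
  exact ⟨x, x.2, congrArg Subtype.val hx⟩

theorem comF_iff {r x : ℕ} (hr : r < 21504) (hx : x < 21504) :
    comF D r x = true ↔ M.el x * M.el r = M.el r * M.el x := by
  by_cases h : r < 128
  · have hq := M.R.conj_T (kp_lt hx) h
    have e1 : M.R.τ x * M.R.τ r = M.R.ι (qmul (qp x) (qact (kImg D (kp x)) r)) * M.R.T (kp x) := by
      rw [M.R.τ_q h, M.R.hom _ (qp_lt x) _ (qact_lt _ _), ← hq]
      show M.R.ι (qp x) * M.R.T (kp x) * M.R.ι r = _
      group
    have e2 : M.R.τ r * M.R.τ x = M.R.ι (qmul r (qp x)) * M.R.T (kp x) := by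
      rw [M.R.τ_q h, M.R.hom _ h _ (qp_lt x), mul_assoc]
      rfl
    unfold comF
    rw [show Nat.blt r 128 = true from Nat.blt_eq.mpr h]
    constructor
    · intro e
      have e' : M.R.τ x * M.R.τ r = M.R.τ r * M.R.τ x := by rw [e1, e2, Nat.eq_of_beq_eq_true e]
      exact congrArg Subtype.val e'
    · intro e
      have e' : M.R.τ x * M.R.τ r = M.R.τ r * M.R.τ x := Subtype.ext e
      rw [e1, e2] at e'
      have := M.R.inj _ (qmul_lt _ _) _ (qmul_lt _ _) (mul_right_cancel e')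
      simp only [cond_true, this, Nat.beq_refl]
  · unfold comF
    rw [show Nat.blt r 128 = false from Bool.eq_false_iff.mpr fun e => h (Nat.blt_eq.mp e)]
    simp only [cond_false, Bool.and_eq_true]
    constructor
    · rintro ⟨-, e⟩
      rw [← M.el_mul hx, ← M.el_mul hr, Nat.eq_of_beq_eq_true e]
    · intro e
      have e' : cmul D x r = cmul D r x :=
        M.el_inj (cmul_lt D hx _) (cmul_lt D hr _) (by rw [M.el_mul hx, M.el_mul hr, e])
      refine ⟨?_, by rw [e']; exact Nat.beq_refl _⟩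
      rw [← kp_cmul D, ← kp_cmul D, e']
      exact Nat.beq_refl _

theorem card_set (P : G → Prop) :
    Nat.card {g : G // g * M.t = M.t * g ∧ P g} = Nat.card {x : Fin 21504 // P (M.el x)} := by
  refine (Nat.card_congr (Equiv.ofBijective (fun x : {x : Fin 21504 // P (M.el x)} =>
    (⟨M.el x.1, M.el_comm _, x.2⟩ : {g : G // g * M.t = M.t * g ∧ P g})) ⟨?_, ?_⟩)).symm
  · intro x y h
    have h' : M.el x.1 = M.el y.1 := congrArg (fun z : {g : G // g * M.t = M.t * g ∧ P g} => (z : G)) h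
    exact Subtype.ext (Fin.ext (M.el_inj x.1.2 y.1.2 h'))
  · rintro ⟨g, hg, hP⟩
    obtain ⟨x, hx, rfl⟩ := M.el_surj hg
    exact ⟨⟨⟨x, hx⟩, hP⟩, rfl⟩

theorem card_fin (Q : ℕ → Prop) [DecidablePred Q] :
    Nat.card {x : Fin 21504 // Q x} = ((Finset.range 21504).filter Q).card := by
  rw [← Nat.card_eq_finsetCard]
  exact Nat.card_congr
    { toFun := fun x => ⟨x.1, Finset.mem_filter.mpr ⟨Finset.mem_range.mpr x.1.2, x.2⟩⟩
      invFun := fun x => ⟨⟨x.1, Finset.mem_range.mp (Finset.mem_filter.mp x.2).1⟩, (Finset.mem_filter.mp x.2).2⟩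
      left_inv := fun _ => rfl
      right_inv := fun _ => rfl }

/-- The number of elements commuting with two given ones, with a given square. -/
noncomputable def roots (_M : Model G D) (a b x : G) : ℕ :=
  Nat.card {g : G // g * a = a * g ∧ g * b = b * g ∧ g * g = x}

/-- The number of elements commuting with two given ones. -/
noncomputable def order2 (_M : Model G D) (a b : G) : ℕ := Nat.card {g : G // g * a = a * g ∧ g * b = b * g}

theorem numR_eq {r s : ℕ} (hr : r < 21504) (hs : s < 21504) : numR D r s = M.roots M.t (M.el r) (M.el s) := by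
  rw [roots, M.card_set fun g => g * M.el r = M.el r * g ∧ g * g = M.el s, numR, ← card_fin]
  refine Nat.card_congr (Equiv.subtypeEquivRight fun x => ?_)
  rw [M.comF_iff hr x.2]
  exact and_congr_right fun _ => ⟨fun e => by rw [← M.el_mul x.2, e],
    fun e => M.el_inj (cmul_lt D x.2 _) hs (by rw [M.el_mul x.2, e])⟩

theorem numC_eq {r : ℕ} (hr : r < 21504) : numC D r = M.order2 M.t (M.el r) := by
  rw [order2, M.card_set fun g => g * M.el r = M.el r * g, numC, ← card_fin]
  exact Nat.card_congr (Equiv.subtypeEquivRight fun x => M.comF_iff hr x.2)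

theorem roots_conj (h a b x : G) :
    M.roots (h * a * h⁻¹) (h * b * h⁻¹) (h * x * h⁻¹) = M.roots a b x := by
  refine (Nat.card_congr ((MulAut.conj h).toEquiv.subtypeEquiv fun g => ?_)).symm
  show _ ↔ h * g * h⁻¹ * (h * a * h⁻¹) = h * a * h⁻¹ * (h * g * h⁻¹) ∧
    h * g * h⁻¹ * (h * b * h⁻¹) = h * b * h⁻¹ * (h * g * h⁻¹) ∧ h * g * h⁻¹ * (h * g * h⁻¹) = h * x * h⁻¹
  have e : ∀ p q : G, h * p * h⁻¹ * (h * q * h⁻¹) = h * (p * q) * h⁻¹ := fun p q => by group
  simp only [e, mul_left_inj, mul_right_inj]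

theorem order2_conj (h a b : G) : M.order2 (h * a * h⁻¹) (h * b * h⁻¹) = M.order2 a b := by
  refine (Nat.card_congr ((MulAut.conj h).toEquiv.subtypeEquiv fun g => ?_)).symm
  show _ ↔ h * g * h⁻¹ * (h * a * h⁻¹) = h * a * h⁻¹ * (h * g * h⁻¹) ∧
    h * g * h⁻¹ * (h * b * h⁻¹) = h * b * h⁻¹ * (h * g * h⁻¹)
  have e : ∀ p q : G, h * p * h⁻¹ * (h * q * h⁻¹) = h * (p * q) * h⁻¹ := fun p q => by group
  simp only [e, mul_left_inj, mul_right_inj]

theorem roots_swap (a b x : G) : M.roots a b x = M.roots b a x :=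
  Nat.card_congr (Equiv.subtypeEquivRight fun _ => ⟨fun ⟨p, q, r⟩ => ⟨q, p, r⟩, fun ⟨p, q, r⟩ => ⟨q, p, r⟩⟩)

theorem order2_swap (a b : G) : M.order2 a b = M.order2 b a :=
  Nat.card_congr (Equiv.subtypeEquivRight fun _ => and_comm)

theorem isT_conj {g : G} (h : M.IsT g) (k : G) : M.IsT (k * g * k⁻¹) := by
  obtain ⟨c, rfl⟩ := h
  exact ⟨k * c, by group⟩

variable {cd : CData} (hc : complete D cd = true) (hj : conjOK D cd = true)

include hj in
theorem conj_rep {e : ℕ × ℕ × ℕ} (he : e ∈ cd.inv) : e.2.1 < cd.reps.length ∧ e.1 < 21504 ∧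
    cd.reps.getD e.2.1 0 < 21504 ∧ M.el e.1 = M.el e.2.2 * M.el (cd.reps.getD e.2.1 0) * (M.el e.2.2)⁻¹ := by
  simp only [conjOK, List.all_eq_true] at hj
  have := hj e he
  simp only [Bool.and_eq_true] at this
  obtain ⟨h1, h2, h3, h4, h5⟩ := this
  refine ⟨blt_iff.mp h1, blt_iff.mp h2, blt_iff.mp h4, eq_mul_inv_iff_mul_eq.mpr ?_⟩
  rw [← M.el_mul (blt_iff.mp h2), ← M.el_mul (blt_iff.mp h3), Nat.eq_of_beq_eq_true h5]

include hj in
theorem inCls_isT {i j y : ℕ} (hi : M.IsT (M.el (cd.reps.getD i 0))) (hjT : M.IsT (M.el (cd.reps.getD j 0)))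
    (h : inCls cd i j y = true) : M.IsT (M.el y) := by
  simp only [inCls, Bool.or_eq_true, List.any_eq_true, Bool.and_eq_true] at h
  rcases h with h | ⟨e, he, hey, hc'⟩
  · rw [Nat.eq_of_beq_eq_true h, M.el_64]
    exact ⟨1, by group⟩
  · obtain ⟨-, -, -, e'⟩ := M.conj_rep hj he
    rw [← Nat.eq_of_beq_eq_true hey, e']
    rcases hc' with hc' | hc'
    · rw [Nat.eq_of_beq_eq_true hc']; exact M.isT_conj hi _
    · rw [Nat.eq_of_beq_eq_true hc']; exact M.isT_conj hjT _

include hc in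
theorem listed {x : ℕ} (hx : x < 21504) (h2 : M.el x * M.el x = 1) (h0 : x ≠ 0) : isListed cd x = true := by
  have hsq : cmul D x x = 0 := M.el_inj (cmul_lt D hx _) (by norm_num) (by rw [M.el_mul hx, h2, M.el_zero])
  have h1 := allN_spec hc (kp x) (kp_lt hx)
  rw [force_eq, Bool.or_eq_true] at h1
  have hk : runK (wd (kp x)) (kp x) = 0 := by rw [← kp_cmul D, hsq]; rfl
  rcases h1 with h1 | h1
  · rw [hk] at h1; simp at h1
  · have h3 := allN_spec h1 (qp x) (qp_lt x)
    rw [force_eq, force_eq, mk_parts, hsq] at h3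
    simp only [Nat.beq_refl, Bool.not_true, Bool.false_or, Bool.or_eq_true] at h3
    exact h3.resolve_left fun e => h0 (Nat.eq_of_beq_eq_true e)

include hc hj in
theorem exists_class {u : G} (hu : u * M.t = M.t * u) (h2 : u * u = 1) (h1 : u ≠ 1) (hne : u ≠ M.t) :
    ∃ e ∈ cd.inv, M.el e.1 = u ∧
      u = M.el e.2.2 * M.el (cd.reps.getD e.2.1 0) * (M.el e.2.2)⁻¹ := by
  obtain ⟨x, hx, rfl⟩ := M.el_surj hu
  have := M.listed hc hx h2 fun e => h1 (by rw [e, M.el_zero])
  simp only [isListed, Bool.or_eq_true, List.any_eq_true] at this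
  rcases this with e | ⟨e, he, hex⟩
  · exact absurd (by rw [Nat.eq_of_beq_eq_true e, M.el_64]) hne
  · obtain ⟨-, -, -, e'⟩ := M.conj_rep hj he
    rw [Nat.eq_of_beq_eq_true hex] at e'
    exact ⟨e, he, by rw [Nat.eq_of_beq_eq_true hex], e'⟩

include hc hj in
/-- A conjugate of the involution gives a pair of classes and a conjugation swapping. -/
theorem exists_pair {u : G} (hu : u * M.t = M.t * u) (hne : u ≠ M.t) (hT : M.IsT u) :
    ∃ e ∈ cd.inv, ∃ e' ∈ cd.inv, M.el e.1 = u ∧ ∃ h : G,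
      h * M.el (cd.reps.getD e.2.1 0) * h⁻¹ = M.t ∧ h * M.t * h⁻¹ = M.el (cd.reps.getD e'.2.1 0) := by
  obtain ⟨c, hcu⟩ := hT
  have hu2 : u * u = 1 := by
    rw [← hcu, show c * M.t * c⁻¹ * (c * M.t * c⁻¹) = c * (M.t * M.t) * c⁻¹ by group, M.t_sq]; group
  have hu1 : u ≠ 1 := fun e => M.t_ne (conj_eq_one_iff.mp (hcu.trans e))
  obtain ⟨e, he, hex, hue⟩ := M.exists_class hc hj hu hu2 hu1 hne
  set r := M.el (cd.reps.getD e.2.1 0) with hr
  set g := c⁻¹ * M.el e.2.2 with hg
  have hgr : g * r * g⁻¹ = M.t := by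
    rw [hg, show c⁻¹ * M.el e.2.2 * r * (c⁻¹ * M.el e.2.2)⁻¹ = c⁻¹ * (M.el e.2.2 * r * (M.el e.2.2)⁻¹) * c by group,
      ← hue, ← hcu]
    group
  have hrt : r * M.t = M.t * r := M.el_comm _
  have hv : g * M.t * g⁻¹ * M.t = M.t * (g * M.t * g⁻¹) := by
    have e3 : g * M.t * g⁻¹ * (g * r * g⁻¹) = g * r * g⁻¹ * (g * M.t * g⁻¹) := by
      rw [show g * M.t * g⁻¹ * (g * r * g⁻¹) = g * (M.t * r) * g⁻¹ by group,
        show g * r * g⁻¹ * (g * M.t * g⁻¹) = g * (r * M.t) * g⁻¹ by group, hrt]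
    rwa [hgr] at e3
  have hv2 : g * M.t * g⁻¹ * (g * M.t * g⁻¹) = 1 := by
    rw [show g * M.t * g⁻¹ * (g * M.t * g⁻¹) = g * (M.t * M.t) * g⁻¹ by group, M.t_sq]; group
  have hv1 : g * M.t * g⁻¹ ≠ 1 := fun e => M.t_ne (conj_eq_one_iff.mp e)
  have hvt : g * M.t * g⁻¹ ≠ M.t := by
    intro e1
    apply hne
    have h3 : r = M.t := mul_left_cancel (mul_right_cancel (hgr.trans e1.symm))
    rw [hue, h3, M.el_comm]
    group
  obtain ⟨e', he', -, hve⟩ := M.exists_class hc hj hv hv2 hv1 hvt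
  refine ⟨e, he, e', he', hex, (M.el e'.2.2)⁻¹ * g, ?_, ?_⟩
  · rw [show (M.el e'.2.2)⁻¹ * g * r * ((M.el e'.2.2)⁻¹ * g)⁻¹ = (M.el e'.2.2)⁻¹ * (g * r * g⁻¹) * M.el e'.2.2 by group,
      hgr, mul_assoc, ← M.el_comm, ← mul_assoc, inv_mul_cancel, one_mul]
  · rw [show (M.el e'.2.2)⁻¹ * g * M.t * ((M.el e'.2.2)⁻¹ * g)⁻¹ = (M.el e'.2.2)⁻¹ * (g * M.t * g⁻¹) * M.el e'.2.2 by group,
      hve]
    group

/-- Fused classes have compatible statistics. -/
theorem compat_of {i j : ℕ} (hri : cd.reps.getD i 0 < 21504) (hrj : cd.reps.getD j 0 < 21504) (hsi : StatOK D cd i)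
    (hsj : StatOK D cd j) {h : G} (h1 : h * M.el (cd.reps.getD i 0) * h⁻¹ = M.t)
    (h2 : h * M.t * h⁻¹ = M.el (cd.reps.getD j 0)) : compat cd i j = true := by
  obtain ⟨a0, a1, a2, -⟩ := stat_unpack _ _ _ _ _ _ hsi
  obtain ⟨b0, b1, b2, -⟩ := stat_unpack _ _ _ _ _ _ hsj
  rw [M.numC_eq hri] at a0
  rw [M.numR_eq hri (by norm_num), M.el_64] at a1
  rw [M.numR_eq hri hri] at a2
  rw [M.numC_eq hrj] at b0
  rw [M.numR_eq hrj (by norm_num), M.el_64] at b1
  rw [M.numR_eq hrj hrj] at b2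
  have k0 := M.order2_conj h M.t (M.el (cd.reps.getD i 0))
  have k1 := M.roots_conj h M.t (M.el (cd.reps.getD i 0)) M.t
  have k2 := M.roots_conj h M.t (M.el (cd.reps.getD i 0)) (M.el (cd.reps.getD i 0))
  rw [h1, h2, M.order2_swap] at k0
  rw [h1, h2, M.roots_swap] at k1
  rw [h1, h2, M.roots_swap] at k2
  simp only [compat, force_eq, Bool.and_eq_true]
  refine ⟨?_, ?_, ?_⟩
  · show Nat.beq (_ % 65536) (_ % 65536) = true
    rw [show cd.stats.getD i 0 % 65536 = cd.stats.getD j 0 % 65536 from by omega]; exact Nat.beq_refl _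
  · show Nat.beq (_ / 65536 % 65536) (_ / 4294967296 % 65536) = true
    rw [show cd.stats.getD i 0 / 65536 % 65536 = cd.stats.getD j 0 / 4294967296 % 65536 from by omega]
    exact Nat.beq_refl _
  · show Nat.beq (_ / 4294967296 % 65536) (_ / 65536 % 65536) = true
    rw [show cd.stats.getD i 0 / 4294967296 % 65536 = cd.stats.getD j 0 / 65536 % 65536 from by omega]
    exact Nat.beq_refl _

include hc hj in
/-- A witness yields a conjugate of the involution among the low codes. -/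
theorem wit_isT (w : Wit) (hw : witOK D cd w = true) (hri : cd.reps.getD w.i 0 < 21504)
    (hrj : cd.reps.getD w.j 0 < 21504)
    (hsrc : stat D (cd.reps.getD w.i 0) w.x (Nat.xor w.x 64) (cmul D w.x (cd.reps.getD w.i 0)) = w.src)
    (hsq : ∀ s, numR D (cd.reps.getD w.j 0) s = cntL w.sq s) {h : G}
    (h1 : h * M.el (cd.reps.getD w.i 0) * h⁻¹ = M.t) (h2 : h * M.t * h⁻¹ = M.el (cd.reps.getD w.j 0)) :
    ∃ x < 128, x ≠ 0 ∧ x ≠ 64 ∧ M.IsT (M.el x) := by
  set u := cd.reps.getD w.i 0 with hu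
  set v := cd.reps.getD w.j 0 with hv
  simp only [witOK, force_eq, Bool.and_eq_true, List.all_eq_true, Bool.not_eq_true'] at hw
  rw [← hu, ← hv] at hw
  obtain ⟨⟨hx, hx0, hx64, hxu, hxx⟩, hall⟩ := hw
  have hx' : w.x < 128 := blt_iff.mp hx
  have hx'' : w.x < 21504 := by omega
  have hne0 : w.x ≠ 0 := fun e => by rw [e] at hx0; simp at hx0
  have hne64 : w.x ≠ 64 := fun e => by rw [e] at hx64; simp at hx64
  have hxt : M.el (Nat.xor w.x 64) = M.el w.x * M.t := by
    rw [qact_z w.x hx', el, M.R.τ_q (qmul_lt _ _), M.R.hom _ hx' 64 (by norm_num), Subgroup.coe_mul, M.ι64, el,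
      M.R.τ_q hx']
  have hTu : M.IsT (M.el u) := ⟨h⁻¹, by rw [← h1]; group⟩
  have hTv : M.IsT (M.el v) := ⟨h, h2⟩
  set Y := h * M.el w.x * h⁻¹ with hY
  have hYt : Y * M.t = M.t * Y := by
    rw [hY, ← h1, show h * M.el w.x * h⁻¹ * (h * M.el u * h⁻¹) = h * (M.el w.x * M.el u) * h⁻¹ by group,
      show h * M.el u * h⁻¹ * (h * M.el w.x * h⁻¹) = h * (M.el u * M.el w.x) * h⁻¹ by group,
      (M.comF_iff hri hx'').mp hxu]
  obtain ⟨y, hy, hye⟩ := M.el_surj hYt
  have hy2 : M.el y * M.el y = 1 := by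
    rw [hye, hY, show h * M.el w.x * h⁻¹ * (h * M.el w.x * h⁻¹) = h * (M.el w.x * M.el w.x) * h⁻¹ by group,
      ← M.el_mul hx'', Nat.eq_of_beq_eq_true hxx, M.el_zero]
    group
  have hy0 : y ≠ 0 := fun e => by
    rw [e, M.el_zero, hY, eq_comm, conj_eq_one_iff, ← M.el_zero] at hye
    exact hne0 (M.el_inj hx'' (by norm_num) hye)
  have hmem : y ∈ (64 :: cd.inv.map Prod.fst) := by
    have := M.listed hc hy hy2 hy0
    simp only [isListed, Bool.or_eq_true, List.any_eq_true] at this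
    rcases this with e | ⟨e, he, ee⟩
    · rw [Nat.eq_of_beq_eq_true e]; exact List.mem_cons_self
    · exact List.mem_cons_of_mem _ (List.mem_map.mpr ⟨e, he, Nat.eq_of_beq_eq_true ee⟩)
  have hvy : M.el y * M.el v = M.el v * M.el y := by
    rw [hye, hY, ← h2, show h * M.el w.x * h⁻¹ * (h * M.t * h⁻¹) = h * (M.el w.x * M.t) * h⁻¹ by group,
      show h * M.t * h⁻¹ * (h * M.el w.x * h⁻¹) = h * (M.t * M.el w.x) * h⁻¹ by group, M.el_comm]
  have hx64lt : Nat.xor w.x 64 < 21504 :=
    lt_of_lt_of_le (Nat.xor_lt_two_pow (n := 7) hx' (by norm_num)) (by norm_num)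
  obtain ⟨-, s1, s2, s3⟩ := stat_unpack _ _ _ _ _ _ hsrc
  rw [M.numR_eq hri hx'', ← M.roots_conj h, h1, h2, M.roots_swap, ← hY, ← hye, ← M.numR_eq hrj hy, hsq] at s1
  rw [M.numR_eq hri hx64lt, hxt, ← M.roots_conj h, h1, h2, M.roots_swap,
    show h * (M.el w.x * M.t) * h⁻¹ = h * M.el w.x * h⁻¹ * (h * M.t * h⁻¹) by group, h2, ← hY, ← hye,
    ← M.el_mul hy, ← M.numR_eq hrj (cmul_lt D hy _), hsq] at s2
  rw [M.numR_eq hri (cmul_lt D hx'' _), M.el_mul hx'', ← M.roots_conj h, h1, h2, M.roots_swap,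
    show h * (M.el w.x * M.el u) * h⁻¹ = h * M.el w.x * h⁻¹ * (h * M.el u * h⁻¹) by group, h1, ← hY, ← hye,
    ← M.el_64, ← M.el_mul hy, M.el_64, ← M.numR_eq hrj (cmul_lt D hy _), hsq] at s3
  have hm : matchW D v w y = true := by
    simp only [matchW, Bool.and_eq_true]
    refine ⟨(M.comF_iff hrj hy).mpr hvy, ?_, ?_, ?_⟩
    · rw [s1]; exact Nat.beq_refl _
    · rw [s2]; exact Nat.beq_refl _
    · rw [s3]; exact Nat.beq_refl _
  have hres := hall y hmem
  rw [hm] at hres
  simp only [Bool.not_true, Bool.false_or, Bool.or_eq_true] at hres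
  rcases hres with hres | hres
  · refine ⟨w.x, hx', hne0, hne64, ?_⟩
    have := M.isT_conj (M.inCls_isT hj hTu hTv hres) h⁻¹
    rwa [hye, hY, show h⁻¹ * (h * M.el w.x * h⁻¹) * h⁻¹⁻¹ = M.el w.x by group] at this
  · refine ⟨Nat.xor w.x 64, Nat.xor_lt_two_pow (n := 7) hx' (by norm_num), ?_, ?_, ?_⟩
    · exact (xor_ne_ok _ hx' hne0 hne64).1
    · exact (xor_ne_ok _ hx' hne0 hne64).2
    · have := M.isT_conj (M.inCls_isT hj hTu hTv hres) h⁻¹
      rw [M.el_mul hy, hye, hY, ← h2,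
        show h⁻¹ * (h * M.el w.x * h⁻¹ * (h * M.t * h⁻¹)) * h⁻¹⁻¹ = M.el w.x * M.t by group, ← hxt] at this
      exact this

end Model

end CfsgLib.HeShape
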