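/-
An elementary subgroup of order sixteen meeting every other conjugate trivially in a group of Held order.
-/
import Mathlib.GroupTheory.GroupAction.Quotient
import Mathlib.GroupTheory.Index
import Mathlib.GroupTheory.Perm.Cycle.Type
import Mathlib.Tactic.Group

set_option autoImplicit false

namespace CfsgLib.HeShape

variable {G : Type*} [Group G] [Finite G]

/-- No group of order 4030387200 has an involution whose conjugates in its centraliser of order 21504 are the
fifteen non-trivial elements of a normal elementary subgroup of order sixteen. -/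
theorem not_tame (hG : Nat.card G = 4030387200) (t : G) (A : Subgroup G) (hA : Nat.card A = 16)
    (hC : Nat.card (Subgroup.centralizer ({t} : Set G)) = 21504) (htA : t ∈ A)
    (hexp : ∀ a ∈ A, a * a = 1) (habel : ∀ a ∈ A, ∀ b ∈ A, a * b = b * a)
    (hcls : ∀ g : G, g * t = t * g → ((∃ k, k * t * k⁻¹ = g) ↔ g ∈ A ∧ g ≠ 1)) : False := by
  classical
  set N := Subgroup.normalizer (A : Set G) with hN
  have hconj : ∀ k, k * t * k⁻¹ ∈ A → k ∈ N := by
    intro k hk
    rw [hN, Subgroup.mem_normalizer_iff]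
    have hle : ∀ a ∈ A, k⁻¹ * a * k ∈ A := by
      intro a ha
      by_cases ha1 : a = 1
      · subst ha1; simp [one_mem]
      obtain ⟨j, hj⟩ := ((hcls a (habel a ha t htA)).mpr ⟨ha, ha1⟩)
      refine ((hcls _ ?_).mp ⟨k⁻¹ * j, by rw [← hj]; group⟩).1
      have := habel a ha _ hk
      calc k⁻¹ * a * k * t = k⁻¹ * (a * (k * t * k⁻¹)) * k := by group
        _ = k⁻¹ * ((k * t * k⁻¹) * a) * k := by rw [this]
        _ = t * (k⁻¹ * a * k) := by group
    have hbij : Function.Bijective fun a : A => (⟨k⁻¹ * a * k, hle a a.2⟩ : A) := by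
      refine Finite.injective_iff_bijective.mp fun a b e => Subtype.ext ?_
      have := congrArg Subtype.val e
      simpa using this
    intro a
    refine ⟨fun ha => ?_, fun ha => ?_⟩
    · obtain ⟨b, hb⟩ := hbij.2 ⟨a, ha⟩
      have : k⁻¹ * (b : G) * k = a := congrArg Subtype.val hb
      rw [← this]
      have e : k * (k⁻¹ * (b : G) * k) * k⁻¹ = b := by group
      rw [e]; exact b.2
    · have := hle _ ha
      rwa [show k⁻¹ * (k * a * k⁻¹) * k = a by group] at this
  have hCN : Subgroup.centralizer ({t} : Set G) ≤ N := fun c hc => hconj c (by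
    rw [Subgroup.mem_centralizer_singleton_iff.mp hc]; simpa using htA)
  have hNA : ∀ n ∈ N, ∀ a ∈ A, n * a * n⁻¹ ∈ A := fun n hn a ha => (Subgroup.mem_normalizer_iff.mp hn a).mp ha
  have ht1 : t ≠ 1 := ((hcls t rfl).mp ⟨1, by group⟩).2
  have horb : Nat.card N = 15 * 21504 := by
    have e : Nat.card (N ⧸ (Subgroup.centralizer ({t} : Set G)).subgroupOf N) = Nat.card {a : A // a ≠ 1} := by
      refine Nat.card_congr (Equiv.ofBijective (Quotient.lift (fun n : N =>
        (⟨⟨(n : G) * t * (n : G)⁻¹, hNA _ n.2 t htA⟩, fun e => ht1 (conj_eq_one_iff.mp (congrArg Subtype.val e))⟩ :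
          {a : A // a ≠ 1})) ?_) ⟨?_, ?_⟩)
      · intro a b hab
        refine Subtype.ext (Subtype.ext ?_)
        have h0 : a⁻¹ * b ∈ (Subgroup.centralizer ({t} : Set G)).subgroupOf N := QuotientGroup.leftRel_apply.mp hab
        have h' : (a : G)⁻¹ * b ∈ Subgroup.centralizer ({t} : Set G) := h0
        have h2 := Subgroup.mem_centralizer_singleton_iff.mp h'
        calc (a : G) * t * (a : G)⁻¹ = a * (t * ((a : G)⁻¹ * b)) * (b : G)⁻¹ := by group
          _ = a * (((a : G)⁻¹ * b) * t) * (b : G)⁻¹ := by rw [h2]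
          _ = (b : G) * t * (b : G)⁻¹ := by group
      · intro x y
        induction x using Quotient.inductionOn with | _ a =>
        induction y using Quotient.inductionOn with | _ b =>
        intro h
        have h' : (a : G) * t * (a : G)⁻¹ = b * t * (b : G)⁻¹ := congrArg (fun z : {a : A // a ≠ 1} => ((z : A) : G)) h
        refine Quotient.sound (QuotientGroup.leftRel_apply.mpr ?_)
        show (a : G)⁻¹ * b ∈ Subgroup.centralizer ({t} : Set G)
        refine Subgroup.mem_centralizer_singleton_iff.mpr ?_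
        calc (a : G)⁻¹ * b * t = (a : G)⁻¹ * (b * t * (b : G)⁻¹) * b := by group
          _ = (a : G)⁻¹ * (a * t * (a : G)⁻¹) * b := by rw [h']
          _ = t * ((a : G)⁻¹ * b) := by group
      · rintro ⟨⟨a, ha⟩, ha1⟩
        obtain ⟨k, hk⟩ := (hcls a (habel a ha t htA)).mpr ⟨ha, fun e => ha1 (Subtype.ext e)⟩
        exact ⟨⟦⟨k, hconj k (hk ▸ ha)⟩⟧, Subtype.ext (Subtype.ext hk)⟩
    have h15 : Nat.card {a : A // a ≠ 1} = 15 := by
      have := Fintype.ofFinite A
      rw [Nat.card_eq_fintype_card, Fintype.card_subtype_compl, Fintype.card_subtype_eq, ← Nat.card_eq_fintype_card, hA]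
    rw [Subgroup.card_eq_card_quotient_mul_card_subgroup ((Subgroup.centralizer ({t} : Set G)).subgroupOf N), e, h15,
      Nat.card_congr (Subgroup.subgroupOfEquivOfLe hCN).toEquiv, hC]
  have hidx : Nat.card (G ⧸ N) = 12495 := by
    have := Subgroup.card_eq_card_quotient_mul_card_subgroup N
    rw [hG, horb] at this
    omega
  have hfix : ∀ a ∈ A, a ≠ 1 → ∀ g : G, g⁻¹ * a * g ∈ N → g ∈ N := by
    intro a ha ha1 g hb
    set b := g⁻¹ * a * g with hbdef
    obtain ⟨ka, hka⟩ := (hcls a (habel a ha t htA)).mpr ⟨ha, ha1⟩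
    have hb2 : b * b = 1 := by
      rw [hbdef, show g⁻¹ * a * g * (g⁻¹ * a * g) = g⁻¹ * (a * a) * g by group, hexp a ha]; group
    have hmem : ∀ c : {c : A // c ≠ 1}, b * (c : A) * b⁻¹ ∈ A := fun c => hNA b hb _ (c : A).2
    let f : {c : A // c ≠ 1} → {c : A // c ≠ 1} := fun c => ⟨⟨b * (c : A) * b⁻¹, hmem c⟩, fun e => c.2 (Subtype.ext
        (conj_eq_one_iff.mp (congrArg Subtype.val e)))⟩
    have hinv : Function.Involutive f := fun c => by
        refine Subtype.ext (Subtype.ext ?_)
        show b * (b * ((c : A) : G) * b⁻¹) * b⁻¹ = ((c : A) : G)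
        calc b * (b * ((c : A) : G) * b⁻¹) * b⁻¹ = b * b * ((c : A) : G) * (b * b)⁻¹ := by group
          _ = _ := by rw [hb2]; group
    let σ : Equiv.Perm {c : A // c ≠ 1} := hinv.toPerm f
    haveI := Fintype.ofFinite A
    have hodd : ¬ 2 ∣ Fintype.card {c : A // c ≠ 1} := by
      rw [Fintype.card_subtype_compl, Fintype.card_subtype_eq, ← Nat.card_eq_fintype_card, hA]
      norm_num
    haveI : Fact (Nat.Prime 2) := ⟨Nat.prime_two⟩
    obtain ⟨c, hc⟩ := Equiv.Perm.exists_fixed_point_of_prime (p := 2) (n := 1) hodd (σ := σ)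
      (Equiv.ext fun c => by rw [pow_one, pow_two]; exact hinv c)
    have hc' : b * ((c : A) : G) * b⁻¹ = ((c : A) : G) := congrArg (fun z : {c : A // c ≠ 1} => ((z : A) : G)) hc
    obtain ⟨k, hk⟩ := (hcls _ (habel _ (c : A).2 t htA)).mpr ⟨(c : A).2, fun e => c.2 (Subtype.ext e)⟩
    have hkN : k ∈ N := hconj k (hk ▸ (c : A).2)
    have hbA : k⁻¹ * b * k ∈ A ∧ k⁻¹ * b * k ≠ 1 := (hcls _ (by
      rw [← hk] at hc'
      calc k⁻¹ * b * k * t = k⁻¹ * (b * (k * t * k⁻¹) * b⁻¹) * b * k := by group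
        _ = t * (k⁻¹ * b * k) := by rw [hc']; group)).mp ⟨k⁻¹ * g⁻¹ * ka, by rw [hbdef, ← hka]; group⟩
    have hbA' : b ∈ A := by
      have := hNA k hkN _ hbA.1
      rwa [show k * (k⁻¹ * b * k) * k⁻¹ = b by group] at this
    have hb1 : b ≠ 1 := fun e => hbA.2 (by rw [e]; group)
    obtain ⟨j, hj⟩ := (hcls b (habel b hbA' t htA)).mpr ⟨hbA', hb1⟩
    have h1 : ka⁻¹ * g * j ∈ N := hCN (Subgroup.mem_centralizer_singleton_iff.mpr (by
      calc ka⁻¹ * g * j * t = ka⁻¹ * g * (j * t * j⁻¹) * j := by group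
        _ = ka⁻¹ * a * g * j := by rw [hj, hbdef]; group
        _ = t * (ka⁻¹ * g * j) := by rw [← hka]; group))
    have := mul_mem (mul_mem (hconj ka (hka ▸ ha)) h1) (inv_mem (hconj j (hj ▸ hbA')))
    rwa [show ka * (ka⁻¹ * g * j) * j⁻¹ = g by group] at this
  classical
  haveI := Fintype.ofFinite A
  haveI : Fintype (G ⧸ N) := Fintype.ofFinite _
  haveI : ∀ a : A, Fintype (MulAction.fixedBy (G ⧸ N) a) := fun a => Fintype.ofFinite _
  haveI : Fintype (Quotient (MulAction.orbitRel A (G ⧸ N))) := Fintype.ofFinite _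
  have key := MulAction.sum_card_fixedBy_eq_card_orbits_mul_card_group A (G ⧸ N)
  have hone : Fintype.card (MulAction.fixedBy (G ⧸ N) (1 : A)) = 12495 := by
    rw [← Nat.card_eq_fintype_card, ← hidx]
    exact Nat.card_congr ((Equiv.setCongr (by ext x; simp [MulAction.fixedBy])).trans (Equiv.Set.univ _))
  have hrest : ∀ a : A, a ≠ 1 → Fintype.card (MulAction.fixedBy (G ⧸ N) a) = 1 := by
    intro a ha
    refine Fintype.card_eq_one_iff.mpr ⟨⟨((1 : G) : G ⧸ N), ?_⟩, ?_⟩
    · show ((((a : G) * 1 : G)) : G ⧸ N) = ((1 : G) : G ⧸ N)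
      refine QuotientGroup.eq.mpr ?_
      simpa using inv_mem (Subgroup.le_normalizer a.2 : (a : G) ∈ N)
    · rintro ⟨x, hx⟩
      induction x using QuotientGroup.induction_on with | _ g =>
      have h1 : (((a : G) * g : G) : G ⧸ N) = (g : G ⧸ N) := hx
      have h2 := inv_mem (QuotientGroup.eq.mp h1)
      have hg : g ∈ N := hfix a a.2 (fun e => ha (Subtype.ext e)) g (by
        rwa [show g⁻¹ * (a : G) * g = (((a : G) * g)⁻¹ * g)⁻¹ by group])
      refine Subtype.ext (QuotientGroup.eq.mpr ?_)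
      simpa using inv_mem hg
  rw [← Finset.add_sum_erase _ _ (Finset.mem_univ (1 : A)), hone,
    Finset.sum_congr rfl fun a ha => hrest a (Finset.ne_of_mem_erase ha), Finset.sum_const,
    Finset.card_erase_of_mem (Finset.mem_univ _), Finset.card_univ, ← Nat.card_eq_fintype_card (α := A), hA,
    smul_eq_mul] at key
  omega

end CfsgLib.HeShape
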