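/-
The six models in a simple group of Held order: only the first one survives, with fusion inside the extraspecial subgroup.
-/
import Cfsg.Agent.Lib.HeShape.Cls00
import Cfsg.Agent.Lib.HeShape.Cls01
import Cfsg.Agent.Lib.HeShape.Cls10
import Cfsg.Agent.Lib.HeShape.Cls11
import Cfsg.Agent.Lib.HeShape.Cls20
import Cfsg.Agent.Lib.HeShape.Cls21
import Cfsg.Agent.Lib.HeShape.Semiregular
import Cfsg.Agent.Lib.Involutions
import Cfsg.Agent.S0215
import Mathlib.GroupTheory.Subgroup.Simple

set_option autoImplicit false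
set_option maxRecDepth 100000

namespace CfsgLib.HeShape

variable {G : Type*} [Group G] [Finite G]

/-- An involution of a simple group with a proper centraliser commutes with another conjugate of itself. -/
theorem exists_commuting_conj [IsSimpleGroup G] {z : G} (hz : orderOf z = 2)
    (hC : Subgroup.centralizer ({z} : Set G) ≠ ⊤) : ∃ g : G, g * z * g⁻¹ ≠ z ∧ Commute z (g * z * g⁻¹) := by
  by_contra hcon
  push Not at hcon
  haveI : Fact (Nat.Prime 2) := ⟨Nat.prime_two⟩
  have hzP : IsPGroup 2 (Subgroup.zpowers z) := IsPGroup.of_card (n := 1) (by rw [Nat.card_zpowers, hz, pow_one])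
  obtain ⟨P, hle⟩ := hzP.exists_le_sylow
  have hzmem : z ∈ P := hle (Subgroup.mem_zpowers z)
  have hiso : ∀ g : G, g * z * g⁻¹ ∈ P → g * z * g⁻¹ = z := by
    intro g hg
    have hodd := Involutions.odd_of_isolated hz (fun k hk => by_contra fun hne => hcon k hne hk) g
    obtain ⟨k, hk⟩ := P.2 ⟨z * (g * z * g⁻¹), mul_mem hzmem hg⟩
    obtain ⟨i, -, hi⟩ := (Nat.dvd_prime_pow Nat.prime_two).mp
      (show orderOf (z * (g * z * g⁻¹)) ∣ 2 ^ k from orderOf_dvd_of_pow_eq_one (congrArg Subtype.val hk))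
    rw [hi] at hodd
    have hi0 : i = 0 := by
      by_contra h0
      exact (Nat.not_even_iff_odd.mpr hodd) (Nat.even_pow.mpr ⟨even_two, h0⟩)
    rw [hi0, pow_zero, orderOf_eq_one_iff, mul_eq_one_iff_eq_inv, Involutions.inv_eq_self_of_orderOf
      ((Involutions.orderOf_conj g z).trans hz)] at hi
    exact hi.symm
  obtain ⟨N, hN, hodd, hcom⟩ := Cfsg.Agent.S0215.result P z hz hzmem hiso
  rcases hN.eq_bot_or_eq_top with e | e
  · refine hC (eq_top_iff.mpr fun g _ => Subgroup.mem_centralizer_singleton_iff.mpr ?_)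
    have := Subgroup.mem_bot.mp (e ▸ hcom g)
    rw [mul_inv_eq_one, mul_inv_eq_iff_eq_mul] at this
    exact this.symm
  · rw [e, Subgroup.card_top] at hodd
    exact Nat.not_even_iff_odd.mpr hodd (even_iff_two_dvd.mpr (hz ▸ orderOf_dvd_natCard z))

namespace Model

variable {D : Tab} (M : Model G D)

include M in
theorem card_cent : Nat.card (Subgroup.centralizer ({M.t} : Set G)) = 21504 := by
  rw [← Nat.card_congr (Equiv.ofBijective _ M.bij), Nat.card_fin]

/-- All representatives are codes. -/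
noncomputable def repsOK (cd : CData) : Bool := cd.reps.all fun r => Nat.blt r (nat_lit 21504)

theorem repsOK_spec {cd : CData} (h : repsOK cd = true) (i : ℕ) : cd.reps.getD i 0 < 21504 := by
  simp only [repsOK, List.all_eq_true] at h
  by_cases hi : i < cd.reps.length
  · rw [List.getD_eq_getElem _ _ hi]
    exact CfsgLib.CosetEnum.blt_iff.mp (h _ (List.getElem_mem hi))
  · rw [List.getD_eq_default _ _ (not_lt.mp hi)]
    norm_num

/-- A commuting conjugate gives two classes that can be fused. -/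
theorem pair_of_simple [IsSimpleGroup G] (hG : Nat.card G = 4030387200) {cd : CData} (hc : complete D cd = true)
    (hj : conjOK D cd = true) : ∃ i < cd.reps.length, ∃ j < cd.reps.length, ∃ h : G,
      h * M.el (cd.reps.getD i 0) * h⁻¹ = M.t ∧ h * M.t * h⁻¹ = M.el (cd.reps.getD j 0) := by
  have hz : orderOf M.t = 2 := orderOf_eq_prime (by rw [pow_two, M.t_sq]) M.t_ne
  obtain ⟨g, hne, hcomm⟩ := exists_commuting_conj hz (fun e => by
    have := M.card_cent
    rw [e, Subgroup.card_top, hG] at this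
    omega)
  obtain ⟨e, he, e', he', -, hh⟩ := M.exists_pair hc hj hcomm.symm.eq hne ⟨g, rfl⟩
  exact ⟨e.2.1, (M.conj_rep hj he).1, e'.2.1, (M.conj_rep hj he').1, hh⟩

include M in
theorem not_fusable [IsSimpleGroup G] (hG : Nat.card G = 4030387200) {cd : CData} (hc : complete D cd = true)
    (hj : conjOK D cd = true) (hr : repsOK cd = true) (hs : ∀ i < cd.reps.length, StatOK D cd i)
    (hno : ∀ i < cd.reps.length, ∀ j < cd.reps.length, compat cd i j = false) : False := by
  obtain ⟨i, hi, j, hj', h, h1, h2⟩ := M.pair_of_simple hG hc hj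
  have := M.compat_of (repsOK_spec hr i) (repsOK_spec hr j) (hs i hi) (hs j hj') h1 h2
  rw [hno i hi j hj'] at this
  exact absurd this (by simp)

/-- The codes of the elementary subgroup are closed and are the given class with one and the central one. -/
noncomputable def elemOK (cd : CData) (i0 : ℕ) (L : List ℕ) : Bool :=
  (L.all fun x => Nat.blt x (nat_lit 128) && (Nat.beq (qmul x x) (nat_lit 0) &&
    (L.all fun y => L.any (fun z => Nat.beq z (qmul x y)) && Nat.beq (qmul x y) (qmul y x)) &&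
      (Nat.beq x (nat_lit 0) || (Nat.beq x (nat_lit 64) || cd.inv.any fun e => Nat.beq e.1 x && Nat.beq e.2.1 i0)))) &&
    (L.any (fun z => Nat.beq z (nat_lit 64)) && (L.any (fun z => Nat.beq z (nat_lit 0)) &&
      cd.inv.all fun e => !Nat.beq e.2.1 i0 || L.any fun z => Nat.beq z e.1))

include M in
theorem not_elem [IsSimpleGroup G] (hG : Nat.card G = 4030387200) {cd : CData} (hc : complete D cd = true)
    (hj : conjOK D cd = true) (hr : repsOK cd = true) (hs : ∀ i < cd.reps.length, StatOK D cd i) (i0 : ℕ)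
    (hone : ∀ i < cd.reps.length, ∀ j < cd.reps.length, compat cd i j = true → i = i0)
    (L : List ℕ) (hL : L.Nodup ∧ L.length = 16) (hok : elemOK cd i0 L = true) : False := by
  simp only [elemOK, Bool.and_eq_true, List.all_eq_true, List.any_eq_true, Bool.or_eq_true, Bool.not_eq_true'] at hok
  obtain ⟨hall, ⟨z64, hz64, e64⟩, ⟨z0, hz0, e0⟩, hcls'⟩ := hok
  rw [Nat.eq_of_beq_eq_true e64] at hz64
  rw [Nat.eq_of_beq_eq_true e0] at hz0
  have hlt : ∀ x ∈ L, x < 128 := fun x hx => CfsgLib.CosetEnum.blt_iff.mp (hall x hx).1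
  have hel : ∀ x ∈ L, ∀ y ∈ L, M.el x * M.el y = M.el (qmul x y) := fun x hx y hy => by
    rw [Model.el, Model.el, Model.el, M.R.τ_q (hlt x hx), M.R.τ_q (hlt y hy), M.R.τ_q (qmul_lt _ _),
      M.R.hom x (hlt x hx) y (hlt y hy), Subgroup.coe_mul]
  let A : Subgroup G :=
    { carrier := {g | ∃ x ∈ L, M.el x = g}
      one_mem' := ⟨0, hz0, M.el_zero⟩
      mul_mem' := by
        rintro _ _ ⟨x, hx, rfl⟩ ⟨y, hy, rfl⟩
        obtain ⟨z, hz, ez⟩ := ((hall x hx).2.1.2 y hy).1
        exact ⟨z, hz, by rw [hel x hx y hy, Nat.eq_of_beq_eq_true ez]⟩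
      inv_mem' := by
        rintro _ ⟨x, hx, rfl⟩
        refine ⟨x, hx, (inv_eq_of_mul_eq_one_right ?_).symm⟩
        rw [hel x hx x hx, Nat.eq_of_beq_eq_true (hall x hx).2.1.1, M.el_zero] }
  have hA : Nat.card A = 16 := by
    have hbij : Function.Bijective fun i : Fin L.length => (⟨M.el L[i], L[i], List.getElem_mem _, rfl⟩ : A) := by
      refine ⟨fun i j e => ?_, ?_⟩
      · have e' := M.el_inj (lt_trans (hlt _ (List.getElem_mem i.2)) (by norm_num))
          (lt_trans (hlt _ (List.getElem_mem j.2)) (by norm_num)) (congrArg (fun a : A => (a : G)) e)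
        exact Fin.ext ((hL.1.getElem_inj_iff).mp e')
      · rintro ⟨_, x, hx, rfl⟩
        obtain ⟨i, hi, rfl⟩ := List.getElem_of_mem hx
        exact ⟨⟨i, hi⟩, rfl⟩
    rw [← Nat.card_congr (Equiv.ofBijective _ hbij), Nat.card_fin, hL.2]
  obtain ⟨i, hi, j, hj', h, h1, h2⟩ := M.pair_of_simple hG hc hj
  have hi0 := hone i hi j hj' (M.compat_of (repsOK_spec hr i) (repsOK_spec hr j) (hs i hi) (hs j hj') h1 h2)
  subst hi0
  have hT : M.IsT (M.el (cd.reps.getD i 0)) := ⟨h⁻¹, by rw [← h1]; group⟩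
  refine not_tame hG M.t A hA M.card_cent ⟨64, hz64, M.el_64⟩ ?_ ?_ fun g hg => ⟨?_, ?_⟩
  · rintro _ ⟨x, hx, rfl⟩
    rw [hel x hx x hx, Nat.eq_of_beq_eq_true (hall x hx).2.1.1, M.el_zero]
  · rintro _ ⟨x, hx, rfl⟩ _ ⟨y, hy, rfl⟩
    rw [hel x hx y hy, hel y hy x hx, Nat.eq_of_beq_eq_true ((hall x hx).2.1.2 y hy).2]
  · intro hgT
    obtain ⟨k, hk⟩ := id hgT
    refine ⟨?_, fun e => M.t_ne (conj_eq_one_iff.mp (hk.trans e))⟩
    by_cases hgt : g = M.t
    · exact ⟨64, hz64, hgt ▸ M.el_64⟩
    obtain ⟨e, he, e', he', hex, h', h1', h2'⟩ := M.exists_pair hc hj hg hgt hgT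
    have hei : e.2.1 = i := hone _ (M.conj_rep hj he).1 _ (M.conj_rep hj he').1
      (M.compat_of (repsOK_spec hr _) (repsOK_spec hr _) (hs _ (M.conj_rep hj he).1) (hs _ (M.conj_rep hj he').1) h1' h2')
    rcases hcls' e he with hh | ⟨z, hz, ez⟩
    · rw [hei, Nat.beq_refl] at hh; simp at hh
    · exact ⟨z, hz, by rw [Nat.eq_of_beq_eq_true ez, hex]⟩
  · rintro ⟨⟨x, hx, rfl⟩, hne⟩
    rcases (hall x hx).2.2 with hx0 | hx64 | ⟨e, he, hee, hec⟩
    · exact absurd (by rw [Nat.eq_of_beq_eq_true hx0, M.el_zero]) hne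
    · exact ⟨1, by rw [Nat.eq_of_beq_eq_true hx64, M.el_64]; group⟩
    · obtain ⟨-, -, -, e'⟩ := M.conj_rep hj he
      rw [Nat.eq_of_beq_eq_true hee, Nat.eq_of_beq_eq_true hec] at e'
      rw [e']
      exact M.isT_conj hT _

end Model

open Model

variable [IsSimpleGroup G]

theorem not01 (M : Model G mod01) (hG : Nat.card G = 4030387200) : False :=
  M.not_fusable hG complete01 conj_ok01 (by decide +kernel) (fun i hi => by
    change i < 4 at hi
    interval_cases i <;> [exact stat01_0; exact stat01_1; exact stat01_2; exact stat01_3]) (by decide +kernel)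

theorem not11 (M : Model G mod11) (hG : Nat.card G = 4030387200) : False :=
  M.not_fusable hG complete11 conj_ok11 (by decide +kernel) (fun i hi => by
    change i < 3 at hi
    interval_cases i <;> [exact stat11_0; exact stat11_1; exact stat11_2]) (by decide +kernel)

theorem not21 (M : Model G mod21) (hG : Nat.card G = 4030387200) : False :=
  M.not_fusable hG complete21 conj_ok21 (by decide +kernel) (fun i hi => by
    change i < 3 at hi
    interval_cases i <;> [exact stat21_0; exact stat21_1; exact stat21_2]) (by decide +kernel)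

theorem not10 (M : Model G mod10) (hG : Nat.card G = 4030387200) : False :=
  M.not_elem hG complete10 conj_ok10 (by decide +kernel) (fun i hi => by
    change i < 4 at hi
    interval_cases i <;> [exact stat10_0; exact stat10_1; exact stat10_2; exact stat10_3]) 0
    (by decide +kernel) [0, 1, 2, 3, 4, 5, 6, 7, 64, 65, 66, 67, 68, 69, 70, 71] (by decide) (by decide +kernel)

theorem not20 (M : Model G mod20) (hG : Nat.card G = 4030387200) : False :=
  M.not_elem hG complete20 conj_ok20 (by decide +kernel) (fun i hi => by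
    change i < 4 at hi
    interval_cases i <;> [exact stat20_0; exact stat20_1; exact stat20_2; exact stat20_3]) 1
    (by decide +kernel) [0, 8, 16, 24, 32, 40, 48, 56, 64, 72, 80, 88, 96, 104, 112, 120] (by decide) (by decide +kernel)

/-- The pairs of classes of the first model are incompatible, low, or have a witness. -/
theorem pairs00_ok : ∀ i < 7, ∀ j < 7, cls00.reps.getD i 0 < 128 ∨ cls00.reps.getD j 0 < 128 ∨
    compat cls00 i j = false ∨ (i, j) ∈ [(3, 3), (4, 4), (4, 5), (5, 4), (5, 5)] := by decide +kernel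

theorem reps00_ok : ∀ i < 7, cls00.reps.getD i 0 ≠ 0 ∧ cls00.reps.getD i 0 ≠ 64 := by decide +kernel

theorem stat00_num {i : ℕ} (hi : i < 7) (hb : ¬ cls00.reps.getD i 0 < 128) : StatOK mod00 cls00 i := by
  interval_cases i
  · exact absurd (by decide +kernel) hb
  · exact absurd (by decide +kernel) hb
  · exact absurd (by decide +kernel) hb
  · exact stat00_3
  · exact stat00_4
  · exact stat00_5
  · exact stat00_6

theorem sq00 {j : ℕ} {L SQ : List ℕ} {n : ℕ} (hs : StatOK mod00 cls00 j) (hn : cls00.stats.getD j 0 % 2 ^ 16 = n)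
    (h : listOK mod00 (cls00.reps.getD j 0) L SQ n = true) (s : ℕ) :
    numR mod00 (cls00.reps.getD j 0) s = cntL SQ s := by
  rw [cntL_eq]
  exact listOK_spec ((stat_unpack _ _ _ _ _ _ hs).1.trans hn) h s

/-- In the first model some other conjugate of the involution has a code below 128. -/
theorem fused00 (M : Model G mod00) (hG : Nat.card G = 4030387200) :
    ∃ x < 128, x ≠ 0 ∧ x ≠ 64 ∧ M.IsT (M.el x) := by
  obtain ⟨i, hi, j, hj, h, h1, h2⟩ := M.pair_of_simple hG complete00 conj_ok00
  change i < 7 at hi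
  change j < 7 at hj
  have hr : repsOK cls00 = true := by decide +kernel
  by_cases hbi : cls00.reps.getD i 0 < 128
  · exact ⟨_, hbi, (reps00_ok i hi).1, (reps00_ok i hi).2, h⁻¹, by rw [← h1]; group⟩
  by_cases hbj : cls00.reps.getD j 0 < 128
  · exact ⟨_, hbj, (reps00_ok j hj).1, (reps00_ok j hj).2, h, h2⟩
  have hcp := M.compat_of (repsOK_spec hr i) (repsOK_spec hr j) (stat00_num hi hbi) (stat00_num hj hbj) h1 h2
  rcases pairs00_ok i hi j hj with c | c | c | c
  · exact absurd c hbi
  · exact absurd c hbj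
  · rw [c] at hcp; exact absurd hcp (by simp)
  simp only [List.mem_cons, List.not_mem_nil, or_false, Prod.mk.injEq] at c
  rcases c with ⟨rfl, rfl⟩ | ⟨rfl, rfl⟩ | ⟨rfl, rfl⟩ | ⟨rfl, rfl⟩ | ⟨rfl, rfl⟩
  · exact M.wit_isT complete00 conj_ok00 wit00_0 wit_ok00_0 (repsOK_spec hr _) (repsOK_spec hr _) wit_src00_0
      (sq00 stat00_3 (by decide +kernel) list00_3) h1 h2
  · exact M.wit_isT complete00 conj_ok00 wit00_1 wit_ok00_1 (repsOK_spec hr _) (repsOK_spec hr _) wit_src00_1
      (sq00 stat00_4 (by decide +kernel) list00_4) h1 h2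
  · exact M.wit_isT complete00 conj_ok00 wit00_2 wit_ok00_2 (repsOK_spec hr _) (repsOK_spec hr _) wit_src00_2
      (sq00 stat00_5 (by decide +kernel) list00_5) h1 h2
  · exact M.wit_isT complete00 conj_ok00 wit00_3 wit_ok00_3 (repsOK_spec hr _) (repsOK_spec hr _) wit_src00_3
      (sq00 stat00_4 (by decide +kernel) list00_4) h1 h2
  · exact M.wit_isT complete00 conj_ok00 wit00_4 wit_ok00_4 (repsOK_spec hr _) (repsOK_spec hr _) wit_src00_4
      (sq00 stat00_5 (by decide +kernel) list00_5) h1 h2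

end CfsgLib.HeShape
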