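/-
The first model inside SL(5, 2): packed matrices.
-/
import Mathlib.Data.Nat.Notation

set_option autoImplicit false

namespace CfsgLib.HeShape

/-- The matrices of the codes below 128, twenty-five bits each. -/
def qMatN : ℕ := 1004248580641801558592604860542157229046744258077678517781494128850858039229255894025531242393297111575639384714970592674777130681711758085683989542841004337110922143435752400267291843408056908255584724695143895378657594949005772942572461116509067619423201261985325320739680013180814538421163265736814474118405314146859253624374967097119654614549246227756554830281110124447964846536899128019423512207990897399031386257758392626767336084944659258772656758000968176611686176273988419179059357679990494602748878558054996243044548531953281230109913377776112654457580110281363101529397168465038804430355017471626378503556918519329200253626155125071785207877648388324673963242820318638471083059316340444622012082294539202314977045767449654308250228474564023091346059040497632084749388472064708806832522544153879814197509396007906949922439609644682151249733467868622842115130600202143021891603274392264539221495557555092368247636722414073647923463113381018343469098471489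

/-- The matrix of the involution. -/
def aMat : ℕ := 21237953

/-- The matrix of the element of order seven. -/
def wMat : ℕ := 5907649

/-- The inverse of the matrix of the element of order seven. -/
def wiMat : ℕ := 26396257

end CfsgLib.HeShape
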