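/-
The first model is the centraliser of a transvection in SL(5, 2).
-/
import Cfsg.Agent.Lib.HeShape.Six
import Cfsg.Agent.Lib.HeShape.IsoData
import Cfsg.Agent.Lib.HeldRecog.Model

set_option autoImplicit false
set_option maxRecDepth 100000

namespace CfsgLib.HeShape

open CfsgLib.CosetEnum CfsgLib.HeCent CfsgLib.HeldRecog

local notation "SL5" => Matrix.SpecialLinearGroup (Fin 5) (ZMod 2)

/-- The code of a matrix of the extraspecial part. -/
noncomputable def qCode (x : ℕ) : ℕ := fld qMatN (Nat.mul (nat_lit 25) x) (nat_lit 25)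

/-- The checks of a matrix commuting with the transvection, with an inverse. -/
noncomputable def okMat (c d : ℕ) : Bool :=
  Nat.beq (mulF c d) oneCode && Nat.beq (mulF c sCode) (mulF sCode c)

theorem okMat_spec {c d : ℕ} (h : okMat c d = true) :
    mat c * mat d = 1 ∧ mat c * mat sCode = mat sCode * mat c := by
  simp only [okMat, Bool.and_eq_true] at h
  rw [mat_mulF, mat_mulF, mat_mulF, Nat.eq_of_beq_eq_true h.1, Nat.eq_of_beq_eq_true h.2]
  exact ⟨mat_one, rfl⟩

/-- The element of the centraliser with a given matrix. -/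
noncomputable def mkHS (c d : ℕ) : HS :=
  if h : okMat c d = true then
    ⟨(⟨mat c, det_one_of_mul (okMat_spec h).1⟩ : SL5),
      Subgroup.mem_centralizer_singleton_iff.mpr (Subtype.ext (okMat_spec h).2)⟩
  else 1

theorem hasCode_mkHS {c d : ℕ} (h : okMat c d = true) (hc : c < 2 ^ 25) : HasCode (mkHS c d) c := by
  rw [mkHS, dif_pos h]
  exact ⟨rfl, hc⟩

theorem qCode_ok : ∀ x < 128, okMat (qCode x) (qCode ((qmul x x) ^^^ x)) = true := by decide +kernel

/-- The image of a code of the extraspecial part. -/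
noncomputable def qH (x : ℕ) : HS := mkHS (qCode x) (qCode ((qmul x x) ^^^ x))

theorem qCode_lt (x : ℕ) : qCode x < 2 ^ 25 := Nat.mod_lt _ (by norm_num)

theorem hasCode_qH {x : ℕ} (hx : x < 128) : HasCode (qH x) (qCode x) := hasCode_mkHS (qCode_ok x hx) (qCode_lt x)

theorem gen_mats_ok : okMat aMat aMat = true ∧ okMat wMat wiMat = true ∧ aMat < 2 ^ 25 ∧ wMat < 2 ^ 25 := by
  decide +kernel

/-- The images of the two generators. -/
noncomputable def gH (s : ℕ) : HS := if s = 0 then mkHS aMat aMat else mkHS wMat wiMat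

/-- The code of a generator. -/
noncomputable def gCodeH (s : ℕ) : ℕ := Bool.rec wMat aMat (Nat.beq s (nat_lit 0))

theorem hasCode_gH (s : ℕ) : HasCode (gH s) (gCodeH s) := by
  unfold gH
  by_cases hs : s = 0
  · subst hs
    rw [if_pos rfl]
    exact hasCode_mkHS gen_mats_ok.1 gen_mats_ok.2.2.1
  · rw [if_neg hs, show gCodeH s = wMat by
      unfold gCodeH
      rw [show Nat.beq s 0 = false from Bool.eq_false_iff.mpr fun e => hs (Nat.eq_of_beq_eq_true e)]]
    exact hasCode_mkHS gen_mats_ok.2.1 gen_mats_ok.2.2.2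

/-- The code of a word. -/
noncomputable def wordCode (w : List ℕ) : ℕ :=
  List.rec oneCode (fun s _ ih => force ih fun r => mulF (gCodeH s) r) w

theorem hasCode_word : ∀ w : List ℕ, HasCode (w.map gH).prod (wordCode w)
  | [] => HasCode.one
  | s :: w => by
    rw [List.map_cons, List.prod_cons]
    show HasCode _ (force (wordCode w) fun r => mulF (gCodeH s) r)
    rw [force_eq]
    exact (hasCode_gH s).mul (hasCode_word w)

theorem qH_hom_ok : (allN 128 fun x' => force x' fun x => allN 128 fun y' => force y' fun y =>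
    Nat.beq (mulF (qCode x) (qCode y)) (qCode (qmul x y))) = true := by decide +kernel

theorem qH_act_ok : ∀ s < 2, ∀ x < 128, mulF (gCodeH s) (qCode x) = mulF (qCode (gAct 0 s x)) (gCodeH s) := by
  decide +kernel

theorem qH_rel_ok : ∀ j < 4, wordCode (relW.getD j []) = qCode ((mod00.val).getD j 0) := by decide +kernel

theorem qinv_cancel : ∀ x < 128, ∀ x' < 128, qmul x x' = 0 → ∀ y < 128, qmul x' y = 0 → x = y := by
  decide +kernel

theorem qH_inj_ok : ∀ x < 128, qCode x = oneCode → x = 0 := by decide +kernel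

theorem ker_ok : ∀ k < 168, k ≠ 0 → ∀ q < 128, Nat.beq (mulF (qCode q) (wordCode (wd k))) oneCode = false := by
  decide +kernel

theorem qH_hom : ∀ x < 128, ∀ y < 128, qH (qmul x y) = qH x * qH y := by
  intro x hx y hy
  refine ((hasCode_qH hx).mul (hasCode_qH hy)).unique ?_ |>.symm
  have h := allN_spec qH_hom_ok x hx
  rw [force_eq] at h
  have h' := allN_spec h y hy
  rw [force_eq] at h'
  rw [Nat.eq_of_beq_eq_true h']
  exact hasCode_qH (qmul_lt _ _)

/-- The first model inside the centraliser of the transvection. -/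
noncomputable def relsH : Rels HS mod00.m mod00.val where
  ι := qH
  hom := qH_hom
  inj x hx y hy e := by
    obtain ⟨x', hx', ex⟩ := qinv_ok x hx
    have e0 : qH 0 = 1 := ι_zero qH_hom
    have h1 : qH (qmul x' y) = 1 := by
      rw [qH_hom x' hx' y hy, ← e, ← qH_hom x' hx' x hx]
      have : qH x * qH x' = 1 := by rw [← qH_hom x hx x' hx', ex, e0]
      rw [qH_hom x' hx' x hx, eq_inv_of_mul_eq_one_right this, inv_mul_cancel]
    have h2 := qH_inj_ok _ (qmul_lt x' y) ((hasCode_qH (qmul_lt x' y)).eq (h1 ▸ HasCode.one))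
    exact qinv_cancel
      x hx x' hx' ex y hy h2
  g := gH
  act s hs x hx := by
    refine mul_inv_eq_iff_eq_mul.mpr ?_
    refine ((hasCode_gH s).mul (hasCode_qH hx)).unique ?_
    rw [qH_act_ok s hs x hx]
    exact (hasCode_qH (gAct_lt _ _ _)).mul (hasCode_gH s)
  rel j hj := by
    refine (hasCode_word _).unique ?_
    rw [qH_rel_ok j hj]
    exact hasCode_qH ((by decide : ∀ j < 4, mod00.val.getD j 0 < 128) j hj)
  val_lt := by decide

/-- The first model inside the centraliser of the transvection, with its tables. -/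
noncomputable def codedH : Coded HS mod00 :=
  ⟨relsH, relsH.edges_known tab000 steps000 tree_ok000 steps_ok000, act_ok00⟩

theorem codedH_ker {x : ℕ} (hx : x < 21504) (h : codedH.τ x = 1) : x = 0 := by
  have hc : HasCode (codedH.τ x) (mulF (qCode (qp x)) (wordCode (wd (kp x)))) :=
    (hasCode_qH (qp_lt x)).mul (hasCode_word _)
  rw [h] at hc
  have e := HasCode.eq hc HasCode.one
  by_cases hk : kp x = 0
  · rw [hk, wd_zero] at e
    have e2 : qCode (qp x) = oneCode := by
      have h1 : HasCode (qH (qp x) * 1) (mulF (qCode (qp x)) oneCode) := (hasCode_qH (qp_lt x)).mul HasCode.one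
      rw [mul_one] at h1
      rw [(hasCode_qH (qp_lt x)).eq h1]
      exact e
    rw [← mk_parts x, hk, qH_inj_ok _ (qp_lt x) e2]
    rfl
  · have := ker_ok _ (kp_lt hx) hk _ (qp_lt x)
    rw [e, Nat.beq_refl] at this
    exact absurd this (by simp)

/-- A group coded by the first model is the centraliser of the transvection. -/
theorem nonempty_equiv {C : Type*} [Group C] (R : Coded C mod00)
    (hb : Function.Bijective fun x : Fin 21504 => R.τ x) : Nonempty (C ≃* HS) := by
  let E := Equiv.ofBijective _ hb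
  have hmul : ∀ x y : Fin 21504, codedH.τ (E.symm (R.τ x * R.τ y)) = codedH.τ x * codedH.τ y := by
    intro x y
    have e : E.symm (R.τ x * R.τ y) = (⟨cmul mod00 x y, cmul_lt _ x.2 _⟩ : Fin 21504) := by
      refine (Equiv.symm_apply_eq E).mpr ?_
      exact (R.τ_mul x.2).symm
    rw [e, ← codedH.τ_mul x.2]
  let φ : C →* HS := MonoidHom.mk' (fun c => codedH.τ (E.symm c)) fun a b => by
    have h := hmul (E.symm a) (E.symm b)
    rwa [show R.τ (E.symm a : ℕ) = a from E.apply_symm_apply a, show R.τ (E.symm b : ℕ) = b from E.apply_symm_apply b] at h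
  have hφ : Function.Injective φ := by
    refine (injective_iff_map_eq_one φ).mpr fun c hc => ?_
    rw [← E.apply_symm_apply c]
    show R.τ (E.symm c : ℕ) = 1
    rw [codedH_ker (E.symm c).2 hc, R.τ_zero]
  haveI : Finite HS := Nat.finite_of_card_ne_zero (by rw [card_HS]; norm_num)
  exact ⟨MulEquiv.ofBijective φ ((Nat.bijective_iff_injective_and_card _).mpr ⟨hφ, by
    rw [card_HS, ← Nat.card_congr E, Nat.card_fin]⟩)⟩

end CfsgLib.HeShape
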