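/-
Groups of Held type: the centraliser and the fusion hypothesis of the recognition.
-/
import Cfsg.Agent.Lib.HeShape.Centralizer
import Cfsg.Agent.Lib.HeShape.Iso
import Cfsg.Agent.Lib.HeShape.Fused
import Cfsg.Agent.S1716
import Cfsg.Agent.Lib.Golay.Chain
import Cfsg.Prelude.Def_Solvable
import Cfsg.Prelude.Def_Spor_He

set_option autoImplicit false
set_option maxRecDepth 100000

namespace CfsgLib.HeShape

open CfsgLib.HeCent CfsgLib.HeldRecog

local notation "SL5" => Matrix.SpecialLinearGroup (Fin 5) (ZMod 2)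

theorem card_SL5_le : Nat.card SL5 ≤ 33554432 := by
  refine (Nat.card_le_card_of_injective (fun A : SL5 => (A : Matrix (Fin 5) (Fin 5) (ZMod 2)))
    Subtype.val_injective).trans ?_
  rw [Matrix, Nat.card_fun, Nat.card_fun, Nat.card_zmod, Nat.card_fin]
  norm_num

variable {G : Type*} [Group G] [Finite G] [IsSimpleGroup G]

/-- A simple group of Held type is the Held group. -/
theorem iso_he (t : G) (ht : orderOf t = 2) (Q : Subgroup (Subgroup.centralizer ({t} : Set G))) [hN : Q.Normal]
    (hQ : Cfsg.IsExtraspecial 2 Q) (hcard : Nat.card Q = 2 ^ 7)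
    (h2c : Subgroup.centralizer (Q : Set (Subgroup.centralizer ({t} : Set G))) ≤ Q)
    (e : (Subgroup.centralizer ({t} : Set G)) ⧸ Q ≃* Matrix.SpecialLinearGroup (Fin 3) (ZMod 2))
    (hG : Nat.card G = 4030387200) : Cfsg.Spor.IsoHe G := by
  have htsq : t * t = 1 := by rw [← pow_two, ← ht, pow_orderOf_eq_one]
  have ht1 : t ≠ 1 := fun h => by rw [h, orderOf_one] at ht; omega
  let H : Hyp (Subgroup.centralizer ({t} : Set G)) :=
    { Q := Q
      normal := hN
      z := ⟨t, Subgroup.mem_centralizer_singleton_iff.mpr rfl⟩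
      z_sq := Subtype.ext htsq
      z_ne := fun h => ht1 (congrArg Subtype.val h)
      z_comm := fun c => Subtype.ext (Subgroup.mem_centralizer_singleton_iff.mp c.2)
      card := hcard
      extra := hQ
      cent := h2c
      π := e.toMonoidHom.comp (QuotientGroup.mk' Q)
      π_surj := e.surjective.comp (QuotientGroup.mk'_surjective Q)
      π_ker := by
        ext x
        simp [MonoidHom.mem_ker] }
  obtain ⟨D, hD, R, h64, hmem, hbij⟩ := H.exists_model
  let M : Model G D := ⟨t, htsq, ht1, R, congrArg Subtype.val h64, hbij⟩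
  simp only [models, List.mem_cons, List.not_mem_nil, or_false] at hD
  rcases hD with rfl | rfl | rfl | rfl | rfl | rfl
  · obtain ⟨f⟩ := nonempty_equiv R hbij
    obtain ⟨x, hx, hx0, hx64, k, hk⟩ := fused00 M hG
    have hk' : k * t * k⁻¹ = M.el x := hk
    have hQp : Q ≤ Cfsg.pCore 2 (Subgroup.centralizer ({t} : Set G)) :=
      le_sSup ⟨hN, IsPGroup.of_card hcard⟩
    have hnwc : ∃ g : G, (∃ hq : g * t * g⁻¹ ∈ Subgroup.centralizer ({t} : Set G),
        (⟨g * t * g⁻¹, hq⟩ : Subgroup.centralizer ({t} : Set G)) ∈ Cfsg.pCore 2 (Subgroup.centralizer ({t} : Set G))) ∧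
        g * t * g⁻¹ ≠ t := by
      refine ⟨k, ⟨hk' ▸ (R.τ x).2, hQp ?_⟩, ?_⟩
      · rw [show (⟨k * t * k⁻¹, hk' ▸ (R.τ x).2⟩ : Subgroup.centralizer ({t} : Set G)) = R.τ x from Subtype.ext hk',
          R.τ_q hx]
        exact (hmem _).mpr ⟨x, hx, rfl⟩
      · rw [hk']
        intro h
        exact hx64 (M.el_inj (by omega) (by norm_num) (h.trans M.el_64.symm))
    have hs : ((sTr : SL5) : Matrix (Fin 5) (Fin 5) (ZMod 2)) = Matrix.transvection 0 1 1 := mat_transvection
    rcases Cfsg.Agent.S1716.result sTr hs t ht f hnwc with ⟨v, -, ⟨g⟩⟩ | ⟨⟨g⟩⟩ | ⟨⟨g⟩⟩ | hhe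
    · have hle := (Nat.card_congr g.toEquiv).le.trans (Subgroup.card_le_card_group _) |>.trans card_SL5_le
      omega
    · have hle := (Nat.card_congr g.toEquiv).le.trans card_SL5_le
      omega
    · have h := Nat.card_congr g.toEquiv
      rw [hG, CfsgGolay.card_M24] at h
      omega
    · exact hhe
  · exact (not01 M hG).elim
  · exact (not10 M hG).elim
  · exact (not11 M hG).elim
  · exact (not20 M hG).elim
  · exact (not21 M hG).elim

end CfsgLib.HeShape
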